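import Cfsg.Agent.Mon.Lat
import Cfsg.Agent.LES.Struct
import Cfsg.Agent.LES.Pair

/-! Groups of Monster type: the structure `MT Q z π P` (`π : C(z) → Co1`, `P q v`: `q ∈ Q` lies over the class of `v`),
squares and commutators in `Q` (`MT.sq_iff`, `MT.comm_iff`), the conjugates of `z` in `Q` (`MT.conj_iff`). -/

set_option autoImplicit false
set_option linter.unusedSectionVars false
set_option linter.unusedVariables false

namespace Cfsg.Agent.Mon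

open Subgroup Cfsg.Agent.BG Cfsg.Agent.Invol Cfsg.Agent.LES Cfsg.Agent.Leech Cfsg.Agent.Golay

variable {G : Type*} [Group G] [Finite G]

abbrev mk1 : CG →* Spor.Co1 := QuotientGroup.mk' _

theorem mk1_eq_one {g : CG} : mk1 g = 1 ↔ g = 1 ∨ g = negC := (QuotientGroup.eq_one_iff g).trans mem_center_Co0
theorem mk1_surj : Function.Surjective mk1 := QuotientGroup.mk'_surjective _
theorem mk1_neg : mk1 negC = 1 := mk1_eq_one.2 (Or.inr rfl)
theorem mk1_eq {g k : CG} : mk1 g = mk1 k ↔ k = g ∨ k = g * negC := by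
  rw [← inv_mul_eq_one, ← map_inv, ← map_mul, mk1_eq_one, inv_mul_eq_iff_eq_mul, inv_mul_eq_iff_eq_mul, mul_one]

def od (i : GolayPt) : LL := ⟨1 - Pi.single i 4, odd_mem i⟩

structure MT (Q : Subgroup G) (z : G) (π : C1[z] →* Spor.Co1) (P : G → LL → Prop) : Prop where
  le : LE Q z
  card : #Q = 2 ^ 25
  surj : Function.Surjective π
  ker : ∀ h, π h = 1 ↔ h.1 ∈ Q
  PQ : ∀ {q v}, P q v → q ∈ Q
  exv : ∀ q ∈ Q, ∃ v, P q v
  exq : ∀ v, ∃ q, P q v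
  mul : ∀ {q r v w}, P q v → P r w → P (q * r) (v + w)
  zero : ∀ {q v}, P q v → (Cg v 0 ↔ q = 1 ∨ q = z)
  cong : ∀ {q v w}, P q v → Cg v w → P q w
  act : ∀ (h : C1[z]) (g : CG) {q v}, mk1 g = π h → P q v → P (h * q * h.1⁻¹) (g • v)
  nwc : ∃ g : G, g * z * g⁻¹ ∈ Q ∧ g * z * g⁻¹ ≠ z

/-- `h ∈ C(z)` acts as `g`. -/
def Rl {z : G} (π : C1[z] →* Spor.Co1) (h : G) (g : CG) : Prop := ∃ hc : h ∈ C1[z], mk1 g = π ⟨h, hc⟩

/-- `q` lies over `v`. -/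
def Pl {z : G} (Q : Subgroup C1[z]) (ψ : LL → Q ⧸ center Q) (q : G) (v : LL) : Prop :=
  ∃ (hc : q ∈ C1[z]) (hq : (⟨q, hc⟩ : C1[z]) ∈ Q), ψ v = QuotientGroup.mk ⟨_, hq⟩

theorem setting_LE {z : G} {Q : Subgroup C1[z]} {w : ℕ} (hs : IsExtraspecialCentralizerSetting z Q w) :
    LE (Q.map C1[z].subtype) z ∧ #(Q.map C1[z].subtype) = 2 ^ (2 * w + 1) := by
  have e := equivMapOfInjective Q _ C1[z].subtype_injective
  exact ⟨(LE.of_fstar hs.1 (congrArg (map C1[z].subtype) hs.2.1) (PGrp.ES_of_mulEquiv hs.2.2.1 e)).1,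
    by rw [← Nat.card_congr e.toEquiv, hs.2.2.2.1]⟩

theorem mem_map_sub {K : Subgroup G} {Q : Subgroup K} {x : K} : x.1 ∈ Q.map K.subtype ↔ x ∈ Q :=
  mem_map_iff_mem K.subtype_injective

theorem mem_center_of {z : G} {Q : Subgroup C1[z]} (h : ES (Q.map C1[z].subtype) z) (a : Q) :
    a ∈ center Q ↔ a.1.1 = 1 ∨ a.1.1 = z := by
  refine ⟨fun k => h.cen _ (mem_map_sub.2 a.2) ?_, fun k => mem_center_iff.2 fun b => Subtype.ext (Subtype.ext ?_)⟩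
  · rintro _ ⟨b, hb, rfl⟩
    exact congrArg (fun x : Q => x.1.1) (mem_center_iff.1 k ⟨b, hb⟩).symm
  · show b.1.1 * a.1.1 = a.1.1 * b.1.1
    rcases k with k | k <;> rw [k]
    · simp
    · exact mem_cent1.1 b.1.2

theorem MT.of {z : G} {Q : Subgroup C1[z]} [Q.Normal] (hs : IsExtraspecialCentralizerSetting z Q 12)
    {e : C1[z] ⧸ Q ≃* Spor.Co1} {ψ : LL → Q ⧸ center Q} (h : IsLeechModTwoIso Q e ψ) :
    MT (Q.map C1[z].subtype) z (e.toMonoidHom.comp (QuotientGroup.mk' Q)) (Pl Q ψ) := by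
  obtain ⟨h1, h2⟩ := setting_LE hs
  obtain ⟨a1, a2, a3, a4⟩ := h
  refine ⟨h1, h2, e.surjective.comp (QuotientGroup.mk'_surjective Q), fun h => ?_, fun ⟨hc, hq, _⟩ => ⟨_, hq, rfl⟩, ?_,
    fun v => ?_, ?_, ?_, ?_, ?_, ?_⟩
  · rw [mem_map_sub]
    exact (map_eq_one_iff e e.injective).trans (QuotientGroup.eq_one_iff h)
  · rintro _ ⟨q, hq, rfl⟩
    obtain ⟨v, hv⟩ := a2 (QuotientGroup.mk ⟨q, hq⟩)
    exact ⟨v, q.2, hq, hv⟩
  · obtain ⟨q, hq⟩ := QuotientGroup.mk_surjective (ψ v)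
    exact ⟨q.1.1, q.1.2, q.2, hq.symm⟩
  · rintro q r v w ⟨c1, q1, e1⟩ ⟨c2, q2, e2⟩
    exact ⟨mul_mem c1 c2, Q.mul_mem q1 q2, by rw [a1, e1, e2]; rfl⟩
  · rintro q v ⟨c1, q1, e1⟩
    rw [cg_zero_iff, ← a3, e1, QuotientGroup.eq_one_iff, mem_center_of h1.toES]
  · rintro q v w ⟨c1, q1, e1⟩ ⟨u, hu⟩
    refine ⟨c1, q1, ?_⟩
    rw [← e1, show v = w + (u + u) by rw [← two_nsmul, ← hu]; abel, a1, (a3 _).2 ⟨u, rfl⟩, mul_one]
  · rintro h g q v e0 ⟨c1, q1, e1⟩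
    exact ⟨mul_mem (mul_mem h.2 c1) (inv_mem h.2), (inferInstance : Q.Normal).conj_mem _ q1 h, a4 h g e0 v _ e1⟩
  · obtain ⟨g, ⟨hq, hg⟩, hne⟩ := hs.2.2.2.2
    exact ⟨g, ⟨_, hg, rfl⟩, hne⟩

theorem MT.of_type {z : G} {Q : Subgroup C1[z]} [Q.Normal] (h : IsOfMonsterType z Q) :
    ∃ π P, MT (Q.map C1[z].subtype) z π P := let ⟨hs, _, _, h⟩ := h; ⟨_, _, MT.of hs h⟩

variable {Q : Subgroup G} {z q r s t c d a b : G} {π : C1[z] →* Spor.Co1} {P : G → LL → Prop} {v w x y : LL} {g k : CG}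

theorem half (h : ES Q z) (hs : s ∈ Q) (h1 : s ≠ 1) (h2 : s ≠ z) : #(Q ⊓ C1[s] : Subgroup G) * 2 = #Q := by
  obtain ⟨q, hq, e⟩ := h.exists_conj hs h1 h2
  have n := h.not_comm_of e
  have : C1[s].relIndex Q = 2 := by
    refine index_eq_two_iff.2 ⟨⟨q, hq⟩, fun b => ?_⟩
    simp only [mem_subgroupOf, mem_cent1, coe_mul]
    by_cases hb : Commute b.1 s
    · refine Or.inr ⟨hb, fun k : Commute (b.1 * q) s => n ?_⟩
      simpa using hb.inv_left.mul_left k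
    · exact Or.inl ⟨h.mul_comm_of b.2 hq hs hb n, hb⟩
  rw [inf_comm, ← this, card_inf_mul_relIndex]

theorem sq_mul (h : ES Q z) (ha : a ∈ Q) (hb : b ∈ Q) :
    Commute a b ↔ (a * b * (a * b) = 1 ↔ (a * a = 1 ↔ b * b = 1)) := by
  have z1 := h.z1
  have zz := h.zz
  have e : a * b * (a * b) = a * b * a⁻¹ * (a * a) * b := by group
  have ca : ∀ x ∈ Q, x * z = z * x := fun x hx => h.zc x hx
  have n1 : ¬ (z = 1) := z1
  by_cases hc : Commute a b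
  · have e1 : a * b * (a * b) = a * a * (b * b) := by rw [mul_assoc, ← mul_assoc b, ← hc.eq]; simp [mul_assoc]
    rw [e1]
    rcases h.sq a ha with e2 | e2 <;> rcases h.sq b hb with e3 | e3 <;> simp [e2, e3, hc, zz, n1]
  · have e1 : a * b * (a * b) = a * a * (b * b) * z := by
      rw [e, h.conj_of_not ha hb hc]
      rcases h.sq a ha with e2 | e2 <;> rw [e2]
      · rw [mul_one, one_mul, mul_assoc, ← ca b hb, mul_assoc]
      · rw [mul_assoc b, zz, mul_one, mul_assoc, ← mul_assoc, ← ca _ (Q.mul_mem hb hb), mul_assoc, zz, mul_one]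
    rw [e1]
    rcases h.sq a ha with e2 | e2 <;> rcases h.sq b hb with e3 | e3 <;> simp [e2, e3, hc, zz, n1]

namespace Rl

theorem cz (h : Rl π c g) : Commute c z := mem_cent1.1 h.1
theorem mul (h : Rl π c g) (h' : Rl π d k) : Rl π (c * d) (g * k) :=
  ⟨mul_mem h.1 h'.1, by rw [map_mul, h.2, h'.2, ← map_mul]; rfl⟩
theorem inv (h : Rl π c g) : Rl π c⁻¹ g⁻¹ := ⟨inv_mem h.1, by rw [map_inv, h.2, ← map_inv]; rfl⟩
theorem one : Rl π 1 1 := ⟨one_mem _, by rw [map_one]; exact (map_one π).symm⟩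
theorem neg (h : Rl π c g) : Rl π c (g * negC) := ⟨h.1, by rw [map_mul, mk1_neg, mul_one, h.2]⟩
theorem pow (h : Rl π c g) (n : ℕ) : Rl π (c ^ n) (g ^ n) :=
  ⟨pow_mem h.1 n, by rw [map_pow, h.2, ← map_pow]; rfl⟩
theorem uniq (h : Rl π c g) (h' : Rl π c k) : k = g ∨ k = g * negC := mk1_eq.1 (h.2.trans h'.2.symm)
theorem ex (π : C1[z] →* Spor.Co1) (h : Commute c z) : ∃ g, Rl π c g :=
  let ⟨g, e⟩ := mk1_surj (π ⟨c, mem_cent1.2 h⟩); ⟨g, _, e⟩

end Rl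

namespace MT

variable (H : MT Q z π P)
include H

theorem es : ES Q z := H.le.toES
theorem lift (g : CG) : ∃ c, Rl π c g := let ⟨c, e⟩ := H.surj (mk1 g); ⟨c.1, c.2, e.symm⟩
theorem mem_iff (h : Rl π c g) : c ∈ Q ↔ g = 1 ∨ g = negC := by rw [← mk1_eq_one, h.2, H.ker]
theorem Rl_Q (h : q ∈ Q) : Rl π q 1 :=
  ⟨mem_cent1.2 (H.es.zc q h), by rw [map_one]; exact ((H.ker _).2 h).symm⟩
theorem cj (h : Rl π c g) (hq : P q v) : P (c * q * c⁻¹) (g • v) := H.act ⟨c, h.1⟩ g h.2 hq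

theorem eq_iff (h : P q v) (h' : P r w) : Cg v w ↔ r = q⁻¹ ∨ r = q⁻¹ * z := by
  rw [← cg_add_zero, H.zero (H.mul h h'), eq_inv_mul_iff_mul_eq, mul_eq_one_iff_eq_inv']

theorem one : P 1 0 := by
  obtain ⟨q, hq⟩ := H.exq 0
  rcases (H.zero hq).1 (Cg.refl _) with rfl | rfl
  · exact hq
  · simpa [H.es.zz] using H.mul hq hq

theorem Pz : P z 0 := by
  obtain ⟨v, hv⟩ := H.exv z H.es.zQ
  exact H.cong hv ((H.zero hv).2 (Or.inr rfl))

theorem mulz (h : P q v) : P (q * z) v := by simpa using H.mul h H.Pz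

theorem inv (h : P q v) : P q⁻¹ v := by
  obtain ⟨w, hw⟩ := H.exv _ (Q.inv_mem (H.PQ h))
  exact H.cong hw ((H.eq_iff h hw).2 (Or.inl rfl)).symm

theorem eq_iff' (h : P q v) (h' : P r w) : Cg v w ↔ r = q ∨ r = q * z := by
  simpa using H.eq_iff (H.inv h) h'

theorem twist (k : CG) :
    MT Q z ((MulAut.conj (mk1 k)⁻¹).toMonoidHom.comp π) fun q v => P q (k • v) := by
  refine ⟨H.le, H.card, (MulAut.conj _).surjective.comp H.surj, fun h => ?_, H.PQ, fun q hq => ?_, fun v => H.exq _,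
    fun h h' => by rw [smul_add]; exact H.mul h h', fun h => ?_, fun h e => H.cong h (e.smul k), fun h g q v e hq => ?_, H.nwc⟩
  · rw [← H.ker]; exact map_eq_one_iff _ (MulAut.conj _).injective
  · obtain ⟨v, hv⟩ := H.exv q hq
    exact ⟨k⁻¹ • v, by simpa using hv⟩
  · rw [← H.zero h]
    exact ⟨fun e => by simpa using e.smul k, fun e => Cg.of_smul (g := k) (by simpa using e)⟩
  · have := H.act h (k * g * k⁻¹) (by
      rw [map_mul, map_mul, e, map_inv]; simp [mul_assoc]) hq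
    simpa [mul_smul] using this

theorem sq_z (h : q ∈ Q) : q * z * (q * z) = q * q := by
  rw [mul_assoc, ← mul_assoc z, ← (H.es.zc q h).eq, mul_assoc, H.es.zz, mul_one]

theorem sq_eq (h : P q v) (h' : P r w) (e : Cg (g • v) w) : q * q = 1 ↔ r * r = 1 := by
  obtain ⟨c, hc⟩ := H.lift g
  have k := H.cj hc h
  have e1 : c * q * c⁻¹ * (c * q * c⁻¹) = c * (q * q) * c⁻¹ := by group
  rcases (H.eq_iff' k h').1 e with rfl | rfl
  · rw [e1, conj_eq_one_iff]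
  · rw [H.sq_z (H.PQ k), e1, conj_eq_one_iff]

theorem sq_nm (h : P q v) (h' : P r w) (hv : nm v = 32 ∨ nm v = 48 ∨ nm v = 64) (e : nm w = nm v) :
    q * q = 1 ↔ r * r = 1 := by
  obtain ⟨g, rfl⟩ := tr_nm hv e
  exact H.sq_eq h h' (Cg.refl _)

/-- `a, b` over vectors with `u`-sums of equal norm: `a b` commutes with the element over `u`. -/
theorem aux {u x' y' : LL} (hu : nm u = 32) (hx : nm x = 32) (hy : nm y = 32) (cx : Cg (x + u) x') (cy : Cg (y + u) y')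
    (h1 : nm x' = 32 ∨ nm x' = 48) (h2 : nm y' = nm x') (hxy : nm (x + y) = 32)
    (hq : P q (x + y + u)) : q * q = 1 := by
  obtain ⟨a, ha⟩ := H.exq x
  obtain ⟨b, hb⟩ := H.exq y
  obtain ⟨c, hc⟩ := H.exq u
  have e1 := H.sq_nm hc ha (Or.inl hu) (hx.trans hu.symm)
  have e2 := H.sq_nm hc hb (Or.inl hu) (hy.trans hu.symm)
  have e3 := H.sq_nm hc (H.mul (H.inv ha) hb) (Or.inl hu) (hxy.trans hu.symm)
  have e4 := H.sq_nm (H.cong (H.mul ha hc) cx) (H.cong (H.mul hb hc) cy) (h1.imp_right Or.inl) h2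
  have k := H.es.comm_of_iff (H.PQ ha) (H.PQ hb) (H.PQ hc) (by
    rw [sq_mul H.es (H.PQ ha) (H.PQ hc), sq_mul H.es (H.PQ hb) (H.PQ hc), e4, ← e1, ← e2])
  rw [sq_mul H.es (H.PQ (H.mul (H.inv ha) hb)) (H.PQ hc), ← e3] at k
  exact (H.sq_eq (g := 1) (H.mul (H.mul (H.inv ha) hb) hc) hq (by rw [one_smul]; exact Cg.refl _)).1 (k.2 Iff.rfl)

theorem sq64 (h : P q v) (hv : nm v = 64) : q * q = 1 := by
  obtain ⟨r, hr⟩ := H.exq (x1 + -d4 none (some 2) 1 + uu)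
  exact (H.sq_nm h hr (Or.inr (Or.inr hv)) (by rw [hv]; decide +kernel)).2 (H.aux nm_uu (by decide +kernel)
    (by decide +kernel) (cg_sub _ _).symm (Cg.refl _) (Or.inl (by decide +kernel)) (by decide +kernel) (by decide +kernel) hr)

theorem sq32 (h : P q v) (hv : nm v = 32) : q * q = 1 := by
  obtain ⟨r, hr⟩ := H.exq (-od none + od (some 1) + uu)
  exact (H.sq_nm h (H.cong hr (cg_sub _ _).symm) (Or.inl hv) (by rw [hv]; decide +kernel)).2 (H.aux nm_uu (by decide +kernel)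
    (by decide +kernel) (cg_sub _ _).symm (cg_sub _ _).symm (Or.inr (by decide +kernel)) (by decide +kernel)
    (by decide +kernel) hr)

theorem sq0 (h : P q 0) : q * q = 1 := by
  rcases (H.zero h).1 (Cg.refl _) with rfl | rfl
  exacts [one_mul _, H.es.zz]

theorem sq48 (h : P q v) (hv : nm v = 48) : q * q ≠ 1 := fun e => by
  have k : ∀ r ∈ Q, r * r = 1 := fun r hr => by
    obtain ⟨w, hw⟩ := H.exv r hr
    obtain ⟨y, c, rfl | e' | e' | e'⟩ := short w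
    exacts [H.sq0 (H.cong hw c), H.sq32 (H.cong hw c) e',
      (H.sq_nm h (H.cong hw c) (Or.inr (Or.inl hv)) (e'.trans hv.symm)).1 e, H.sq64 (H.cong hw c) e']
  obtain ⟨a, ha, b, hb, n⟩ := H.es.nab
  exact n ((sq_mul H.es ha hb).2 (by simp [k _ ha, k _ hb, k _ (Q.mul_mem ha hb)]))

theorem sq_iff (h : P q v) : q * q = 1 ↔ 32 ∣ nm v := by
  obtain ⟨y, c, e⟩ := short v
  have := c.dvd_nm
  rcases e with rfl | e | e | e
  · exact iff_of_true (H.sq0 (H.cong h c)) (by rw [nm_zero] at this; omega)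
  · exact iff_of_true (H.sq32 (H.cong h c) e) (by omega)
  · exact iff_of_false (H.sq48 (H.cong h c) e) (by omega)
  · exact iff_of_true (H.sq64 (H.cong h c) e) (by omega)

theorem comm_iff (h : P q v) (h' : P r w) : Commute q r ↔ 16 ∣ ip v w := by
  rw [sq_mul H.es (H.PQ h) (H.PQ h'), H.sq_iff (H.mul h h'), H.sq_iff h, H.sq_iff h', nm_add]
  have := sixteen_dvd_sqNorm v.2
  have := sixteen_dvd_sqNorm w.2
  have := eight_dvd_dot v.2 w.2
  unfold nm ip; omega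

theorem conj_z (hs : s ∈ Q) (h1 : s ≠ 1) (h2 : s ≠ z) : ∃ q ∈ Q, q * (s * z) * q⁻¹ = s := by
  obtain ⟨q, hq, e⟩ := H.es.exists_conj hs h1 h2
  exact ⟨q⁻¹, Q.inv_mem hq, by rw [← e]; group⟩

/-- elements over `Co0`-conjugate classes are conjugate. -/
theorem conj_of (hs : P s v) (ht : P t w) (h1 : t ≠ 1) (h2 : t ≠ z) (e : Cg (k • v) w) :
    ∃ c, Rl π c k ∧ c * s * c⁻¹ = t := by
  obtain ⟨c, hc⟩ := H.lift k
  rcases (H.eq_iff' ht (H.cj hc hs)).1 e.symm with e' | e'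
  · exact ⟨c, hc, e'⟩
  · obtain ⟨q, hq, e2⟩ := H.conj_z (H.PQ ht) h1 h2
    refine ⟨q * c, by simpa using (H.Rl_Q hq).mul hc, ?_⟩
    rw [← e2, ← e']; group

theorem stab (hs : P s v) (h1 : s ≠ 1) (h2 : s ≠ z) (e : Cg (k • v) v) : ∃ c, Rl π c k ∧ Commute c s :=
  let ⟨c, hc, e'⟩ := H.conj_of hs hs h1 h2 e; ⟨c, hc, cj_eq_iff_comm.1 e'⟩

theorem stab' (hs : P s v) (hc : Rl π c k) (e : Commute c s) : Cg (k • v) v :=
  (H.eq_iff' (H.cj hc hs) hs).2 (Or.inl (cj_eq_iff_comm.2 e).symm)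

theorem h8 : 8 < #Q := by rw [H.card]; norm_num

theorem pair {x : G} (hs : x * z * x⁻¹ ∈ Q) (hne : x * z * x⁻¹ ≠ z) : Pair Q (BG.cj x Q) z (x * z * x⁻¹) :=
  H.le.pair H.h8 hs hne

end MT

/-- the image of `T ∩ C(z)` in `Co0`. -/
def NS (π : C1[z] →* Spor.Co1) (T : Subgroup G) : Subgroup CG := ((T.subgroupOf C1[z]).map π).comap mk1

theorem mem_NS {T : Subgroup G} : g ∈ NS π T ↔ ∃ c ∈ T, Rl π c g :=
  ⟨fun ⟨c, hc, e⟩ => ⟨c.1, hc, c.2, e.symm⟩, fun ⟨c, hc, h, e⟩ => ⟨⟨c, h⟩, hc, e.symm⟩⟩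

theorem map_NS {T : Subgroup G} : (NS π T).map mk1 = (T.subgroupOf C1[z]).map π := map_comap_eq_self_of_surjective mk1_surj _

theorem Pair.inter_sq {T : Subgroup G} (h : Pair Q T z s) (ha : a ∈ Q) (ha' : a ∈ T) : a * a = 1 := by
  rcases h.hQ.sq a ha with e | e
  · exact e
  · rcases h.hP.sq a ha' with e' | e'
    · exact e'
    · exact absurd (e'.symm.trans e) h.ne

theorem Pair.inter_comm {T : Subgroup G} (h : Pair Q T z s) (ha : a ∈ Q) (ha' : a ∈ T) (hb : b ∈ Q) (hb' : b ∈ T) :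
    Commute a b := (sq_mul h.hQ.toES ha hb).2 (by
  simp [Pair.inter_sq h ha ha', Pair.inter_sq h hb hb', Pair.inter_sq h (Q.mul_mem ha hb) (T.mul_mem ha' hb')])

namespace MT

variable (H : MT Q z π P) {T : Subgroup G}
include H

theorem two (h : Pair Q T z s) (hs : P s v) : Two (NS π T) v := by
  have s1 := h.hP.z1
  refine ⟨mem_NS.2 ⟨1, T.one_mem, by simpa using Rl.one.neg⟩, fun g hg => ?_, fun k hk g hg => ?_, fun g hg => ?_, ?_⟩
  · obtain ⟨c, hc, e⟩ := mem_NS.1 hg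
    exact H.stab' hs e (h.hP.zc c hc)
  · obtain ⟨c, hc, e⟩ := mem_NS.1 hg
    obtain ⟨d, hd, e'⟩ := H.stab hs s1 h.ne hk
    exact mem_NS.2 ⟨_, h.hP.conj_mem e' hc, (hd.mul e).mul hd.inv⟩
  · obtain ⟨c, hc, e⟩ := mem_NS.1 hg
    rw [← H.mem_iff (e.mul e)]
    rcases h.hP.sq c hc with e' | e' <;> rw [e']
    exacts [Q.one_mem, h.sQ]
  · by_contra! n
    have h8 : 8 < #T := by obtain ⟨g, -, rfl⟩ := h.tr; rw [card_cj]; exact H.h8
    obtain ⟨a, ha, b, hb, az, bz, ab⟩ := h.hP.nab_cent h8 h.zP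
    have k : ∀ c ∈ T, Commute c z → c ∈ Q := fun c hc cz => by
      obtain ⟨g, hg⟩ := Rl.ex π cz
      rw [H.mem_iff hg, or_iff_not_imp_left]
      exact n g (mem_NS.2 ⟨c, hc, hg⟩)
    exact ab (Pair.inter_comm h (k a ha az) ha (k b hb bz) hb)

theorem not32 (h : Pair Q T z s) (hs : P s v) : nm v ≠ 32 := fun e => by
  obtain ⟨k, rfl⟩ := norm32 e
  exact no_two_uu ((H.twist k).two h hs)

theorem type4 (h : Pair Q T z s) (hs : P s v) : ∃ y, Cg v y ∧ nm y = 64 := by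
  obtain ⟨y, c, rfl | e | e | e⟩ := short v
  · rcases (H.zero hs).1 c with e | e
    exacts [absurd e h.hP.z1, absurd e h.ne]
  · exact absurd e (H.not32 h (H.cong hs c))
  · exact absurd h.hP.zz (H.sq48 (H.cong hs c) e)
  · exact ⟨y, c, e⟩

theorem ne_of (hs : P s v) (hv : nm v = 32 ∨ nm v = 48 ∨ nm v = 64) : s ≠ 1 ∧ s ≠ z := by
  rw [← not_or, ← H.zero hs]
  intro c
  have := c.nm_eq (by omega) (by rw [nm_zero]; norm_num)
  rw [nm_zero] at this; omega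

theorem conj_nm (hs : P s v) (ht : P t w) (hv : nm v = 32 ∨ nm v = 48 ∨ nm v = 64) (e : nm w = nm v) :
    ∃ c ∈ C1[z], c * s * c⁻¹ = t := by
  obtain ⟨g, rfl⟩ := tr_nm hv e
  have := H.ne_of ht (by rwa [e])
  obtain ⟨c, hc, e'⟩ := H.conj_of hs ht this.1 this.2 (Cg.refl _)
  exact ⟨c, hc.1, e'⟩

theorem type4' (hs : s ∈ Q) (hc : IsConj z s) (hne : s ≠ z) : ∃ y, P s y ∧ nm y = 64 := by
  obtain ⟨x, rfl⟩ := isConj_iff.1 hc
  obtain ⟨v, hv⟩ := H.exv _ hs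
  obtain ⟨y, c, e⟩ := H.type4 (H.pair hs hne) hv
  exact ⟨y, H.cong hv c, e⟩

theorem conj64 (hs : P s v) (hv : nm v = 64) : IsConj z s ∧ s ≠ z := by
  obtain ⟨x, hx, hne⟩ := H.nwc
  obtain ⟨y, hy, e⟩ := H.type4' hx (isConj_iff.2 ⟨x, rfl⟩) hne
  obtain ⟨c, -, e'⟩ := H.conj_nm hy hs (Or.inr (Or.inr e)) (hv.trans e.symm)
  exact ⟨(isConj_iff.2 ⟨x, rfl⟩).trans (isConj_iff.2 ⟨c, e'⟩), (H.ne_of hs (Or.inr (Or.inr hv))).2⟩

theorem type2 (hs : s ∈ Q) (h2 : orderOf s = 2) (hc : ¬ IsConj z s) : ∃ y, P s y ∧ nm y = 32 := by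
  obtain ⟨v, hv⟩ := H.exv _ hs
  obtain ⟨y, c, rfl | e | e | e⟩ := short v
  · rcases (H.zero hv).1 c with e | e
    · rw [e, orderOf_one] at h2; omega
    · exact absurd (e ▸ IsConj.refl z) hc
  · exact ⟨y, H.cong hv c, e⟩
  · exact absurd (by rw [← pow_two, ← h2, pow_orderOf_eq_one]) (H.sq48 (H.cong hv c) e)
  · exact absurd (H.conj64 (H.cong hv c) e).1 hc

theorem not_conj32 (hs : P s v) (hv : nm v = 32) : ¬ IsConj z s := fun hc => by
  obtain ⟨y, hy, e⟩ := H.type4' (H.PQ hs) hc (H.ne_of hs (Or.inl hv)).2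
  have := ((H.eq_iff' hs hy).2 (Or.inl rfl)).nm_eq (by omega) (by omega)
  omega

/-- normal form: `s` lies over the standard frame. -/
theorem norm4 (hs : s ∈ Q) (hc : IsConj z s) (hne : s ≠ z) :
    ∃ k : CG, P s (k • e8 none) := by
  obtain ⟨y, hy, e⟩ := H.type4' hs hc hne
  obtain ⟨k, rfl⟩ := tr_nm (x := e8 none) (Or.inr (Or.inr (sqNorm_e8 _))) (e.trans (sqNorm_e8 _).symm)
  exact ⟨k, hy⟩

theorem NS_e8 (h : Pair Q T z s) (hs : P s (e8 none)) : NS π T = SG := two_e8 (H.two h hs)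

theorem NS_cent (hs : P s (e8 none)) : NS π C1[s] = NN := by
  have := H.ne_of hs (Or.inr (Or.inr (sqNorm_e8 _)))
  ext g
  rw [mem_NS, mem_NN_cg (i := none)]
  exact ⟨fun ⟨c, hc, e⟩ => H.stab' hs e (mem_cent1.1 hc), fun e =>
    let ⟨c, hc, e'⟩ := H.stab hs this.1 this.2 e; ⟨c, mem_cent1.2 e', hc⟩⟩

theorem Q_le : Q ≤ C1[z] := fun q hq => mem_cent1.2 (H.es.zc q hq)

theorem card_img (T : Subgroup G) :
    #(Q ⊓ T : Subgroup G) * #((T.subgroupOf C1[z]).map π) = #(T ⊓ C1[z] : Subgroup G) := by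
  have e : π.ker = Q.subgroupOf C1[z] := Subgroup.ext H.ker
  rw [← relIndex_ker, e, ← inf_subgroupOf_right, ← inf_subgroupOf_right T, relIndex_subgroupOf inf_le_right,
    ← card_inf_mul_relIndex (Q ⊓ C1[z]) (T ⊓ C1[z]), inf_eq_left.2 H.Q_le, ← inf_assoc,
    inf_eq_left.2 (inf_le_left.trans H.Q_le : Q ⊓ T ≤ _)]

omit H in
theorem card_SG1 : #(SG.map mk1) = 2 ^ 11 := by
  have := card_inf_mul_relIndex mk1.ker SG
  rw [relIndex_ker, QuotientGroup.ker_mk', inf_eq_left.2, card_center_Co0, card_SG] at this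
  · omega
  · intro g hg
    rcases mem_center_Co0.1 hg with rfl | rfl
    exacts [SG.one_mem, ⟨_, _, rfl⟩]

theorem card_inter (h : Pair Q T z s) : #(Q ⊓ T : Subgroup G) = 2 ^ 13 := by
  obtain ⟨x, e, rfl⟩ := h.tr
  obtain ⟨k, hk⟩ := H.norm4 h.sQ (isConj_iff.2 ⟨x, e⟩) h.ne
  have e1 := (H.twist k).card_img (BG.cj x Q)
  rw [← map_NS, (H.twist k).NS_e8 h hk, card_SG1] at e1
  have e2 := half h.hP.toES h.zP H.es.z1 h.ne.symm
  rw [card_cj, H.card] at e2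
  omega

end MT

end Cfsg.Agent.Mon
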