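import Cfsg.Agent.Mon.Norm
import Cfsg.Agent.Comp.Subor

/-! Centralizers in `Co0` of permutations of odd prime order: the bound `cent_le`, homomorphisms `hom_of`, `cent_hom`. -/

set_option autoImplicit false

namespace Cfsg.Agent.Mon

open Cfsg.Agent.Comp Cfsg.Agent.Golay Cfsg.Agent.Leech Cfsg.Agent.BG MulAction Subgroup
open scoped Pointwise _root_.Classical

variable {a c cb p : ℕ} {x y v : LL} {b g : CG} {l W L S : List ℕ} {σ : MG}

theorem hom_of {H X Y : Type*} [Group H] [MulAction CG X] [MulAction H Y] {R : ℕ → H → Prop} (C : Keyed RC X)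
    (D : Keyed R Y) {M : Subgroup H} (gens pts : List (ℕ × ℕ)) {K : Subgroup CG} (hK : CodesIn RC (mapL Prod.fst gens) K)
    (hM : CodesIn R (mapL Prod.snd gens) M) (hMc : closure (genSet R (mapL Prod.snd gens)) = M)
    (hpts : ∀ p ∈ pts, (∃ x, C.P p.1 x) ∧ ∃ y, D.P p.2 y) (hc : compat C D gens pts = true)
    (hn : nodupL (mapL (fun p => C.key p.1) pts) = true)
    (hf : ∀ h ∈ M, (∀ p ∈ pts, ∀ y, D.P p.2 y → h • y = y) → h = 1) :
    ∃ φ : Cl (mapL Prod.fst gens) →* M, Function.Surjective φ ∧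
      ∀ p ∈ gens, ∀ g : Cl (mapL Prod.fst gens), RC p.1 g → ∀ h ∈ M, R p.2 h → (φ g : H) = h := by
  obtain ⟨φ, h1, h2⟩ := exists_hom_of_compat gens pts hK.closure rfl hM hMc hpts hc hn hf
  have m : ∀ g, φ g ∈ M := fun g => h1 ▸ ⟨g, rfl⟩
  refine ⟨φ.codRestrict M m, fun h => ?_, fun p hp g hg h hh hr => ?_⟩
  · obtain ⟨g, e⟩ : h.1 ∈ φ.range := h1 ▸ h.2
    exact ⟨g, Subtype.ext e⟩
  · refine inv_mul_eq_one.1 (hf _ (mul_mem (inv_mem (m g)) hh) fun q hq y hy => ?_)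
    obtain ⟨⟨x, hx⟩, -⟩ := hpts q hq
    have r : PRel C D pts x y := ⟨q, hq, hx, hy⟩
    rw [mul_smul, inv_smul_eq_iff]
    exact (prel_smul_of_mem_closure hpts hc (z := (g, h)) (subset_closure ⟨p, hp, hg, hr⟩) r).func hn (h2 g x y r)

theorem ker_of_card {G M : Type*} [Group G] [Finite G] [Group M] {K K' Z : Subgroup G} (h : K' ≤ K) (φ : K' →* M)
    (hs : Function.Surjective φ) (hZ : Z ≤ K') (h1 : ∀ g : K', g.1 ∈ Z → φ g = 1) (hc : #K ≤ Nat.card M * #Z) :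
    K' = K ∧ ∀ g : K', φ g = 1 ↔ g.1 ∈ Z := by
  have e := card_mul_card_ker hs
  have l : Z.subgroupOf K' ≤ φ.ker := fun g hg => h1 g hg
  have l2 := card_le_card l
  rw [card_subgroupOf hZ] at l2
  have l3 := card_le_card h
  have : Finite M := Finite.of_surjective φ hs
  refine ⟨eq_of_card_le h (hc.trans (e ▸ Nat.mul_le_mul_left _ l2)), fun g => ?_⟩
  have := eq_of_card_le l (by
    rw [card_subgroupOf hZ]; exact Nat.le_of_mul_le_mul_left (e ▸ l3.trans hc) Nat.card_pos)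
  rw [← MonoidHom.mem_ker, ← this, mem_subgroupOf]

theorem negC_ne : negC ≠ 1 := fun e => e8_ne_neg none none (by rw [← negC_smul, e, one_smul])

theorem mem_zp (hp : Odd p) (hb : b ^ p = 1) : g ∈ zpowers (b * negC) ↔ g ∈ zpowers b ∨ g * negC ∈ zpowers b := by
  have c : Commute b negC := negC_comm b
  have n : negC ∈ zpowers (b * negC) := by
    have := pow_mem (mem_zpowers (b * negC)) p
    obtain ⟨k, rfl⟩ := hp
    rwa [c.mul_pow, hb, one_mul, pow_succ, pow_mul, pow_two, negC_sq, one_pow, one_mul] at this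
  have l : zpowers b ≤ zpowers (b * negC) := zpowers_le.2 (by
    have := mul_mem (mem_zpowers _) n
    rwa [mul_assoc, negC_sq, mul_one] at this)
  refine ⟨?_, fun h => h.elim (fun h => l h) fun h => ?_⟩
  · rintro ⟨k, rfl⟩
    rcases (Invol.mem_zpowers_invol negC_sq).1 (zpow_mem (mem_zpowers negC) k) with e | e <;>
      simp only [c.mul_zpow, e, mul_one, mul_assoc, negC_sq, zpow_mem_zpowers, true_or, or_true]
  · have := mul_mem (l h) n
    rwa [mul_assoc, negC_sq, mul_one] at this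

theorem cent_hom (hp : Odd p) (ho : orderOf b = p) {K : Subgroup CG} (hK : K ≤ C1[b]) {M : Type*} [Group M] (φ : K →* M)
    (hs : Function.Surjective φ) (hb : b * negC ∈ K) (h1 : φ ⟨_, hb⟩ = 1) (hc : #C1[b] ≤ Nat.card M * (p * 2)) :
    ∃ f : C1[b] →* M, Function.Surjective f ∧ (∀ g, f g = 1 ↔ g.1 ∈ zpowers b ∨ g.1 * negC ∈ zpowers b) ∧
      ∀ g : K, f ⟨g, hK g.2⟩ = φ g := by
  have o : orderOf negC = 2 := orderOf_eq_prime (by rw [pow_two, negC_sq]) negC_ne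
  obtain ⟨rfl, h⟩ := ker_of_card (Z := zpowers (b * negC)) hK φ hs (zpowers_le.2 hb) (fun g ⟨k, e⟩ => by
    rw [show g = ⟨_, hb⟩ ^ k from Subtype.ext e.symm, map_zpow, h1, one_zpow]) (by
      rwa [Nat.card_zpowers, (show Commute b negC from negC_comm b).orderOf_mul_eq_mul_orderOf_of_coprime
        (by rw [ho, o]; exact Nat.coprime_two_right.2 hp), ho, o])
  exact ⟨φ, hs, fun g => (h g).trans (mem_zp hp (ho ▸ pow_orderOf_eq_one b)), fun _ => rfl⟩

theorem moved (hb : RC cb b) (hg : RC c g) (a : ℕ) (h : band (inL a) (band (Nat.beq (actV cb a) a)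
    (not (Nat.beq (keyQ.key (actV c a)) (keyQ.key a)))) = true) : ∃ x, Cg (b • x) x ∧ ¬ Cg (g • x) x := by
  simp only [band_eq, Bool.and_eq_true, nbeq, Bool.not_eq_true', nbeq_false] at h
  have p := PV_vec a h.1
  refine ⟨_, by rw [hb.smul_eq p p h.2.1]; exact Cg.refl _, fun e => h.2.2 ?_⟩
  exact (Keyed.smul_eq_iff (C := keyQ) hg ⟨_, p, rfl⟩ ⟨_, p, rfl⟩).1 (cl_eq.2 e)

theorem pow_ne {M : Type*} [Group M] [Finite M] {f : C1[b] →* M} (hk : ∀ g, f g = 1 ↔ g.1 ∈ zpowers b ∨ g.1 * negC ∈ zpowers b)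
    {g0 : C1[b]} (h2 : ∃ x, Cg (b • x) x ∧ ¬ Cg (g0.1 • x) x) {k : ℕ} (ho : Odd k) (h : g0.1 ^ k = 1) (n : ℕ) :
    f g0 ^ 2 ^ n ≠ 1 := fun e => by
  obtain ⟨x, h3, h4⟩ := h2
  have e2 : f g0 ^ k = 1 := by rw [← map_pow, show g0 ^ k = 1 from Subtype.ext h, map_one]
  have l : zpowers b ≤ stabilizer CG (cl x) := zpowers_le.2 (cl_eq.2 h3)
  refine h4 (((hk g0).1 (eq_one_of_odd (ho.of_dvd_nat (orderOf_dvd_of_pow_eq_one e2)) (mem_zpowers _) e)).elim
    (fun h => cl_eq.1 (l h)) fun h => ?_)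
  have : Cg ((g0.1 * negC) • x) x := cl_eq.1 (l h)
  rw [mul_smul, negC_smul] at this
  exact ((cg_neg x).smul _).symm.trans this

theorem pow_RC (hg : RC c g) {k : ℕ} (h : Nat.beq (powC mulC oneC c k) oneC = true) : g ^ k = 1 :=
  canC.func (nbeq.1 h ▸ grpC.pow hg k) grpC.one

theorem codes_cent (hb : RC cb b) (h : band (allL L okC) (allL L fun c => commC mulC c cb) = true) : CodesIn RC L C1[b] := by
  rw [band_eq, Bool.and_eq_true] at h
  exact ((codesC h.1).centralizer grpC canC.func hb h.2).mono inf_le_right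

theorem prM_pm (σ : MG) : prM ⟨pm σ, pm_mem σ⟩ = σ := prM_eq (hc := empty_mem_supp) rfl

theorem fix_of_comm {c : Finset GolayPt} {hc : c ∈ GSupp} (h : sg c hc ∈ C1[pm σ]) : σ • c = c := by
  have := sg_conj σ hc
  rw [← mem_cent1.1 h, mul_inv_cancel_right] at this
  exact (mono_inj this).2.symm

theorem cent_le (hW : Val W) (inj : Inj (pm σ) W) (hS : Small (pm σ) S) (h : RM c σ) :
    #C1[pm σ] ≤ cntF W S * (#C1[σ] * countLt 4096 fun a => Nat.beq (img24 c (gE a)) (gE a)) := by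
  refine (card_le_frames hW inj hS fun g hg => ?_).trans (Nat.mul_le_mul_left _ (ncard_fixc h ▸
    card_inf_NN (fun g hg => mem_cent1.2 ?_) fun c hc => fix_of_comm))
  · rw [← mul_smul, ← mem_cent1.1 hg, mul_smul]; exact (mem_NN_cg.1 (pm_mem σ)).smul g
  · rw [← prM_pm σ, ← map_mul, ← map_mul]; exact congrArg prM (Subtype.ext (mem_cent1.1 hg))

theorem orderOf_pm (σ : MG) : orderOf (pm σ) = orderOf σ := orderOf_injective pm pm_inj σ

theorem RC_neg (h : RC cb b) : RC (mulC cb (sgC (2 ^ 24 - 1))) (b * negC) := by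
  refine grpC.mul h ?_
  have := RC_sgC (s := 2 ^ 24 - 1) (EG.ofMask_full ▸ univ_mem_supp)
  convert this using 1
  exact mono_congr (hc := univ_mem_supp) rfl EG.ofMask_full.symm

theorem cent_hom' (hb : RC cb b) (hp : Odd p) (ho : orderOf b = p) {H X Y : Type*} [Group H] [MulAction CG X]
    [MulAction H Y] {R : ℕ → H → Prop} (C : Keyed RC X) (D : Keyed R Y) {M : Subgroup H} (gens pts : List (ℕ × ℕ))
    (hK : CodesIn RC (mapL Prod.fst gens) C1[b]) (hM : CodesIn R (mapL Prod.snd gens) M)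
    (hMc : closure (genSet R (mapL Prod.snd gens)) = M) (hpts : ∀ p ∈ pts, (∃ x, C.P p.1 x) ∧ ∃ y, D.P p.2 y)
    (hf : ∀ h ∈ M, (∀ p ∈ pts, ∀ y, D.P p.2 y → h • y = y) → h = 1) {o : ℕ} (h1 : R o 1)
    (h : band (band (compat C D gens pts) (nodupL (mapL (fun p => C.key p.1) pts)))
      (anyL gens fun q => band (Nat.beq q.1 (mulC cb (sgC (2 ^ 24 - 1)))) (Nat.beq q.2 o)) = true)
    (hc : #C1[b] ≤ #M * (p * 2)) :
    ∃ f : C1[b] →* M, Function.Surjective f ∧ (∀ g, f g = 1 ↔ g.1 ∈ zpowers b ∨ g.1 * negC ∈ zpowers b) ∧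
      ∀ p ∈ gens, ∀ g : C1[b], RC p.1 g → ∀ h ∈ M, R p.2 h → (f g : H) = h := by
  simp only [band_eq, Bool.and_eq_true, anyL_iff, nbeq] at h
  obtain ⟨⟨h2, h3⟩, q, hq, e1, e2⟩ := h
  obtain ⟨φ, h4, h5⟩ := hom_of C D gens pts hK hM hMc hpts h2 h3 hf
  have m : ∀ p ∈ gens, ∀ g, RC p.1 g → g ∈ Cl (mapL Prod.fst gens) := fun p hp g hg =>
    subset_closure ⟨p.1, by rw [mapL_eq]; exact List.mem_map_of_mem hp, hg⟩
  have r : RC q.1 (b * negC) := e1 ▸ RC_neg hb
  obtain ⟨f, h6, h7, h8⟩ := cent_hom hp ho (Cl_le hK) φ h4 (m q hq _ r)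
    (Subtype.ext (h5 q hq _ r 1 (one_mem _) (e2 ▸ h1))) hc
  exact ⟨f, h6, h7, fun p hp g hg h hh hr => (congrArg Subtype.val (h8 ⟨g, m p hp g hg⟩)).trans (h5 p hp _ hg h hh hr)⟩

theorem codes_alt {n w m k : ℕ} (hp : Par (n + 1) w m) (hk : Odd k) (h : allL L (fun c => band (isPermP (n + 1) w m c)
    (Nat.beq (powC (mulP (n + 1) w m) (oneP (n + 1) w) c k) (oneP (n + 1) w))) = true) :
    CodesIn (PRep (encFin n) w m) L (alternatingGroup (Fin (n + 1))) := fun c hc => by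
  have h := allL_iff.1 h c hc
  rw [band_eq, Bool.and_eq_true] at h
  refine ⟨_, Equiv.Perm.mem_alternatingGroup.2 ?_, (encFin n).toPerm_rep h.1⟩
  have := congrArg Equiv.Perm.sign (((encFin n).toPerm_rep h.1).pow_eq_one hp h.2)
  rw [map_pow, map_one] at this
  refine (Int.units_eq_one_or _).resolve_right fun e => ?_
  rw [e, hk.neg_one_pow] at this
  exact absurd this (by decide)

theorem fix_pts {α H : Type*} {n w m : ℕ} (E : Enc α n) [Group H] [MulAction H α] [FaithfulSMul H α] {pts : List (ℕ × ℕ)}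
    (h : allLt n (fun i => memL i (mapL Prod.snd pts)) = true) (g : H)
    (hg : ∀ p ∈ pts, ∀ y, (keyedPt E w m H).P p.2 y → g • y = y) : g = 1 :=
  FaithfulSMul.eq_of_smul_eq_smul fun a : α => by
    have := memL_iff.1 (allLt_iff.1 h _ (E.enc_lt a))
    rw [mapL_eq, List.mem_map] at this
    obtain ⟨p, hp, e⟩ := this
    rw [one_smul]; exact hg p hp a e

theorem pts_ok {α H X : Type*} {n w m : ℕ} (E : Enc α n) [Group H] [MulAction H α] [MulAction CG X] {C : Keyed RC X}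
    (hC : ∀ a, inL a = true → ∃ x, C.P a x) {pts : List (ℕ × ℕ)}
    (h : allL pts (fun p => band (inL p.1) (Nat.blt p.2 n)) = true) :
    ∀ p ∈ pts, (∃ x, C.P p.1 x) ∧ ∃ y, (keyedPt E w m H).P p.2 y := fun p hp => by
  have := allL_iff.1 h p hp
  rw [band_eq, Bool.and_eq_true, nblt] at this
  exact ⟨hC _ this.1, _, (E.enc_dec _ this.2).symm⟩

end Cfsg.Agent.Mon
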