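import Cfsg.Agent.Mon.Shape
import Cfsg.Agent.Comp.Hom
import Cfsg.Agent.Comp.Class

/-! Classes of `Λ/2Λ` fixed by an element of odd order: signatures (`sigC`, `sigX`), `nondeg`, `inj_of` (a fixed class is
determined by its signature), the coded action `keyQ` on classes, bounds `relIndex_le`, `card_inf_NN`. -/

set_option autoImplicit false

namespace Cfsg.Agent.Mon

open Cfsg.Agent.Comp Cfsg.Agent.Golay Cfsg.Agent.Leech Finset MulAction
open scoped Pointwise _root_.Classical

variable {a c cb p : ℕ} {x y v : LL} {b g : CG} {l W L : List ℕ}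

/-- the vector with code `a`. -/
noncomputable def vc (a : ℕ) : LL := if h : ∃ x, PV a x then h.choose else 0

theorem vc_eq (h : PV a x) : vc a = x := by
  rw [vc, dif_pos ⟨x, h⟩]; exact (Exists.choose_spec (⟨x, h⟩ : ∃ x, PV a x)).func h

def Val (l : List ℕ) : Prop := ∀ a ∈ l, PV a (vc a)

theorem PV_vc (h : PV a x) : PV a (vc a) := vc_eq h ▸ h
theorem val_of (h : allL l inL = true) : Val l := fun a ha => PV_vc (PV_vec a (allL_iff.1 h a ha))
theorem val_lat : Val latGens := val_of (by decide +kernel)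

def odd8 (a b : ℕ) : Bool := tb (dotO a b) 3

theorem eight_ip (x y : LL) : 8 ∣ ip x y := eight_dvd_dot x.2 y.2

theorem odd8_iff {a b : ℕ} (h : PV a x) (h' : PV b y) : odd8 a b = false ↔ 16 ∣ ip x y := by
  have e := h.dot h'
  have := eight_ip x y
  rw [odd8, tb_eq, Nat.testBit_eq_decide_div_mod_eq, decide_eq_false_iff_not]
  unfold ip at *; omega

theorem ip_add_left (x y z : LL) : ip (x + y) z = ip x z + ip y z := dot_add_left _ _ _
theorem ip_zero_left (z : LL) : ip 0 z = 0 := by simp [ip, dotInt]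

theorem nondeg' (h : ∀ y, 16 ∣ ip x y) : Cg x 0 := by
  obtain ⟨y, c, e⟩ := short x
  have k : ∀ (u w : LL) (g : CG), g • u = y → ¬ 16 ∣ ip u w → False := fun u w g e n => by
    have h1 := c.dvd_ip (g • w)
    have h2 := h (g • w)
    rw [← e, ip_act] at h1; omega
  rcases e with rfl | e | e | e
  · exact c
  · obtain ⟨g, hg⟩ := norm32 e; exact (k uu w0 g hg (by decide +kernel)).elim
  · obtain ⟨g, hg⟩ := norm48 e; exact (k vv uu g hg (by decide +kernel)).elim
  · obtain ⟨g, hg⟩ := tr_nm (x := e8 none) (Or.inr (Or.inr (sqNorm_e8 _))) (e.trans (sqNorm_e8 _).symm)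
    exact (k _ vv g hg (by decide +kernel)).elim

theorem nondeg (h : ∀ a ∈ latGens, 16 ∣ ip x (vc a)) : Cg x 0 := by
  let M : AddSubgroup V :=
    { carrier := {v | 16 ∣ dotInt (x : V) v}
      zero_mem' := by simp [dotInt]
      add_mem' := fun ha hb => by simp only [Set.mem_ofPred_eq, dot_add_right]; exact dvd_add ha hb
      neg_mem' := fun ha => by simp only [Set.mem_ofPred_eq, dot_neg_right]; exact (dvd_neg).2 ha }
  exact nondeg' fun y => latGens_spec (M := M) (fun a ha y hy => vc_eq hy ▸ h a ha) y.2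

def parL (f : ℕ → Bool) (l : List ℕ) : Bool :=
  List.rec (motive := fun _ => Bool) false (fun a _ ih => Bool.rec ih (not ih) (f a)) l

theorem parL_iff (hl : Val l) (h : PV a y) : parL (fun u => odd8 u a) l = false ↔ 16 ∣ ip (l.map vc).sum y := by
  induction l with
  | nil => simp [parL, ip_zero_left]
  | cons u l ih =>
    have e1 := ih fun a ha => hl a (List.mem_cons_of_mem _ ha)
    have e2 := odd8_iff (hl u List.mem_cons_self) h
    have := eight_ip (vc u) y
    have := eight_ip (l.map vc).sum y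
    rw [List.map_cons, List.sum_cons, ip_add_left]
    show (Bool.rec (parL _ l) (not (parL _ l)) (odd8 u a) : Bool) = false ↔ _
    revert e1 e2
    cases odd8 u a <;> cases parL (fun u => odd8 u a) l <;> simp <;> omega

def iterL (cb p : ℕ) : ℕ → List ℕ :=
  Nat.rec (motive := fun _ => ℕ → List ℕ) (fun _ => []) (fun _ ih a => a :: force (actV cb a) ih) p

theorem iterL_spec (hb : RC cb b) (hx : Cg (b • x) x) (p : ℕ) : ∀ a y, PV a y → Val (iterL cb p a) ∧
    16 ∣ ip ((iterL cb p a).map vc).sum x - p * ip y x := by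
  induction p with
  | zero => intro a y _; exact ⟨fun _ h => absurd h List.not_mem_nil, by simp [iterL, ip_zero_left]⟩
  | succ p ih =>
    intro a y h
    obtain ⟨h1, h2⟩ := ih _ _ (isActV hb h)
    have e : iterL cb (p + 1) a = a :: iterL cb p (actV cb a) := congrArg (a :: ·) (force_eq _ _)
    rw [e]
    refine ⟨fun u hu => (List.mem_cons.1 hu).elim (fun e => e ▸ PV_vc h) (h1 u), ?_⟩
    have h3 := hx.dvd_ip (b • y)
    rw [ip_act, ip_comm x, ip_comm x] at h3
    rw [List.map_cons, List.sum_cons, ip_add_left, vc_eq h]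
    obtain ⟨s, hs⟩ := h2
    obtain ⟨t, ht⟩ := h3
    exact ⟨s - p * t, by push_cast; linear_combination hs - p * ht⟩

theorem sum_dvd (h : ∀ w ∈ l, 16 ∣ ip x (vc w)) : 16 ∣ ip (l.map vc).sum x := by
  induction l with
  | nil => simp [ip_zero_left]
  | cons u l ih =>
    rw [List.map_cons, List.sum_cons, ip_add_left]
    exact dvd_add (ip_comm _ _ ▸ h u List.mem_cons_self) (ih fun a ha => h a (List.mem_cons_of_mem _ ha))

def injOK (cb p : ℕ) (WD : List (ℕ × ℕ)) : Bool :=
  forceL latGens fun G => allL G fun a => forceL (iterL cb p a) fun it =>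
    forceL (appendL it (mapL Prod.fst (filterL (fun q => parL (fun u => odd8 u q.2) it) WD))) fun l =>
      allL G fun a' => not (parL (fun u => odd8 u a') l)

/-- fixed classes are determined by the parities of the inner products with `W`. -/
def Inj (b : CG) (W : List ℕ) : Prop := ∀ x, Cg (b • x) x → (∀ w ∈ W, 16 ∣ ip x (vc w)) → Cg x 0

theorem inj_of (hb : RC cb b) (hp : Odd p) {WD : List (ℕ × ℕ)} (hW : Val (mapL Prod.fst WD)) (h : injOK cb p WD = true) :
    Inj b (mapL Prod.fst WD) := fun x hx hw => nondeg fun a ha => by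
  simp only [injOK, forceL_eq, allL_iff, appendL_eq, mapL_eq, filterL_eq, Bool.not_eq_true'] at h hw hW
  obtain ⟨h1, h2⟩ := iterL_spec hb hx p a _ (val_lat a ha)
  set l2 := (WD.filter fun q => parL (fun u => odd8 u q.2) (iterL cb p a)).map Prod.fst
  have s : ∀ w ∈ l2, w ∈ WD.map Prod.fst := fun w hw => (List.map_subset _ List.filter_sublist.subset) hw
  have h3 : Cg ((iterL cb p a ++ l2).map vc).sum 0 := nondeg fun a' ha' =>
    (parL_iff (fun u hu => (List.mem_append.1 hu).elim (h1 u) fun k => hW u (s u k)) (val_lat a' ha')).1 (h a ha a' ha')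
  have h4 := h3.dvd_ip x
  have h5 := sum_dvd fun w k => hw w (s w k)
  rw [List.map_append, List.sum_append, ip_add_left, ip_zero_left] at h4
  obtain ⟨k, rfl⟩ := hp
  obtain ⟨t, ht⟩ := eight_ip (vc a) x
  rw [ip_comm, ht]
  rw [ht] at h2
  have e : ((2 * k + 1 : ℕ) : ℤ) * (8 * t) = 16 * (k * t) + 8 * t := by push_cast; ring
  rw [e] at h2; omega

def sigC (W : List ℕ) (a : ℕ) : ℕ :=
  List.rec (motive := fun _ => ℕ) 0
    (fun w _ ih => Nat.add (Nat.mul 2 ih) (Bool.rec (motive := fun _ => ℕ) 0 1 (odd8 a w))) W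

noncomputable def sigX (W : List ℕ) (x : LL) : ℕ :=
  W.foldr (fun w acc => 2 * acc + if 16 ∣ ip x (vc w) then 0 else 1) 0

theorem sigC_eq (hW : Val W) (h : PV a x) : sigC W a = sigX W x := by
  induction W with
  | nil => rfl
  | cons w W ih =>
    have e := odd8_iff h (hW w List.mem_cons_self)
    show 2 * sigC W a + (Bool.rec 0 1 (odd8 a w) : ℕ) = 2 * sigX W x + _
    rw [ih fun a ha => hW a (List.mem_cons_of_mem _ ha)]
    revert e
    cases odd8 a w <;> simp +contextual

theorem sigX_lt (x : LL) : sigX W x < 2 ^ W.length := by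
  induction W with
  | nil => exact Nat.one_pos
  | cons w W ih =>
    show 2 * sigX W x + _ < 2 ^ (W.length + 1)
    split_ifs <;> omega

theorem sigX_iff : sigX W x = sigX W y ↔ ∀ w ∈ W, 16 ∣ ip (x + y) (vc w) := by
  induction W with
  | nil => simp [sigX]
  | cons w W ih =>
    rw [List.forall_mem_cons, ← ih, ip_add_left]
    have := eight_ip x (vc w)
    have := eight_ip y (vc w)
    show 2 * sigX W x + _ = 2 * sigX W y + _ ↔ _
    split_ifs <;> omega

theorem Cg.sigX (h : Cg x y) : sigX W x = sigX W y := sigX_iff.2 fun w _ => by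
  simpa [ip_zero_left] using (cg_add_zero.2 h).dvd_ip (vc w)

theorem Inj.cg (h : Inj b W) (hx : Cg (b • x) x) (hy : Cg (b • y) y) (e : sigX W x = sigX W y) : Cg x y :=
  cg_add_zero.1 (h _ (by rw [smul_add]; exact hx.add hy) (sigX_iff.1 e))

/-! ### the classes -/

instance cgS : Setoid LL := ⟨Cg, Cg.refl, Cg.symm, Cg.trans⟩

def LQ : Type := Quotient cgS

def cl (x : LL) : LQ := Quotient.mk _ x

theorem cl_eq : cl x = cl y ↔ Cg x y := Quotient.eq

instance instActLQ : MulAction CG LQ where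
  smul g := Quotient.map (g • ·) fun _ _ h => Cg.smul h g
  one_smul x := Quotient.inductionOn x fun x => congrArg cl (one_smul _ x)
  mul_smul g h x := Quotient.inductionOn x fun x => congrArg cl (mul_smul g h x)

theorem smul_cl (g : CG) (x : LL) : g • cl x = cl (g • x) := rfl

def keyQ : Keyed RC LQ where
  P a X := ∃ x, PV a x ∧ X = cl x
  act := actV
  key := sigC latGens
  isAct _ _ _ _ hc := by rintro ⟨x, hx, rfl⟩; exact ⟨_, isActV hc hx, rfl⟩
  can _ _ _ := by
    rintro ⟨x, hx, rfl⟩ ⟨y, hy, e⟩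
    rw [sigC_eq val_lat hx, sigC_eq val_lat hy]; exact (cl_eq.1 e).sigX
  inj _ _ _ _ := by
    rintro ⟨x, hx, rfl⟩ ⟨y, hy, rfl⟩ e
    rw [sigC_eq val_lat hx, sigC_eq val_lat hy] at e
    exact cl_eq.2 (cg_add_zero.1 (nondeg (sigX_iff.1 e)))

theorem keyQ_P (h : inL a = true) : ∃ x, keyQ.P a x := ⟨_, _, PV_vec a h, rfl⟩

/-! ### counting frames -/

def maskL (f : ℕ → ℕ) (l : List ℕ) : ℕ :=
  List.rec (motive := fun _ => ℕ) 0 (fun a _ ih => Nat.lor ih (Nat.shiftLeft 1 (f a))) l

theorem maskL_spec {f : ℕ → ℕ} {i : ℕ} (h : (maskL f l).testBit i = true) : ∃ a ∈ l, f a = i := by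
  induction l with
  | nil => simp [maskL] at h
  | cons u l ih =>
    have : (maskL f l ||| 1 <<< f u).testBit i = true := h
    rw [Nat.testBit_or, Bool.or_eq_true, Nat.one_shiftLeft, Nat.testBit_two_pow, decide_eq_true_eq] at this
    exact this.elim (fun k => let ⟨a, ha, e⟩ := ih k; ⟨a, List.mem_cons_of_mem _ ha, e⟩) fun k => ⟨u, List.mem_cons_self, k⟩

/-- codes of short vectors in fixed classes. -/
def Small (b : CG) (S : List ℕ) : Prop := ∀ a ∈ S, ∃ x, PV a x ∧ nm x < 64 ∧ Cg (b • x) x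

def orbS (W L : List ℕ) (fuel : ℕ) (seeds : List ℕ) : List ℕ :=
  List.rec (motive := fun _ => List ℕ) [] (fun a _ ih => appendL (orbitL actV (sigC W) (fun _ => true) L fuel a) ih) seeds

theorem small_of (hb : RC cb b) (hL : CodesIn RC L (Subgroup.centralizer {b})) (fuel : ℕ) {seeds : List ℕ}
    (h : allL seeds (fun a => band (inL a) (band (Nat.blt (dotO a a) 1600) (Nat.beq (actV cb a) a))) = true) :
    Small b (orbS W L fuel seeds) := by
  induction seeds with
  | nil => intro a ha; exact absurd ha List.not_mem_nil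
  | cons s l ih =>
    rw [allL_iff, List.forall_mem_cons, ← allL_iff] at h
    intro a ha
    have : a ∈ appendL (orbitL actV (sigC W) (fun _ => true) L fuel s) (orbS W L fuel l) := ha
    rw [appendL_eq, List.mem_append] at this
    refine this.elim (fun k => ?_) (ih h.2 a)
    have h1 := h.1
    simp only [band_eq, Bool.and_eq_true, nblt, nbeq] at h1
    have p0 := PV_vec s h1.1
    obtain ⟨g, hg, e⟩ := orbitL_reach isActV hL p0 k
    have := p0.dot p0
    refine ⟨_, e, ?_, ?_⟩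
    · rw [nm_act, nm, sqNorm_eq]; omega
    · rw [← mul_smul, ← Subgroup.mem_centralizer_singleton_iff.1 hg, mul_smul, hb.smul_eq p0 p0 h1.2.2]; exact Cg.refl _

def cntF (W S : List ℕ) : ℕ := force (maskL (sigC W) S) fun m => countLt (Nat.pow 2 (lenL W)) fun i => not (tb m i)

theorem not_small {S : List ℕ} (hW : Val W) (inj : Inj b W) (hS : Small b S) (hx : Cg (b • x) x) (h : nm x = 64) :
    (maskL (sigC W) S).testBit (sigX W x) = false := by
  rw [← Bool.not_eq_true]
  intro k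
  obtain ⟨a, ha, e⟩ := maskL_spec k
  obtain ⟨y, hy, h1, h2⟩ := hS a ha
  have := (inj.cg h2 hx (by rw [← e, sigC_eq hW hy])).nm_eq h1.le h.le
  omega

theorem ncard_frames {S : List ℕ} (hW : Val W) (inj : Inj b W) (hS : Small b S) :
    {X : LQ | ∃ x, X = cl x ∧ Cg (b • x) x ∧ nm x = 64}.Finite ∧
      {X : LQ | ∃ x, X = cl x ∧ Cg (b • x) x ∧ nm x = 64}.ncard ≤ cntF W S := by
  have k : ∀ X : LQ, Cg X.out X.out ∧ cl X.out = X := fun X => ⟨Cg.refl _, X.out_eq⟩
  rw [cntF, force_eq, countLt_eq, ← Set.ncard_coe_finset]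
  have h1 : Set.MapsTo (fun X : LQ => sigX W X.out) {X : LQ | ∃ x, X = cl x ∧ Cg (b • x) x ∧ nm x = 64}
      ((range (Nat.pow 2 (lenL W))).filter fun i => not (tb (maskL (sigC W) S) i) = true) := by
    rintro _ ⟨x, rfl, h1, h2⟩
    have e : sigX W (cl x).out = sigX W x := (cl_eq.1 (k _).2).sigX
    simp only [coe_filter, Finset.mem_range, Set.mem_ofPred_eq, e, tb_eq, not_small hW inj hS h1 h2, lenL_eq]
    exact ⟨sigX_lt x, rfl⟩
  have h2 : Set.InjOn (fun X : LQ => sigX W X.out) {X : LQ | ∃ x, X = cl x ∧ Cg (b • x) x ∧ nm x = 64} := by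
    rintro _ ⟨x, rfl, h1, -⟩ _ ⟨y, rfl, h2, -⟩ e
    exact cl_eq.2 (inj.cg h1 h2 ((cl_eq.1 (k _).2).sigX.symm.trans (e.trans (cl_eq.1 (k _).2).sigX)))
  exact ⟨Set.Finite.of_injOn h1 h2 (Finset.finite_toSet _), Set.ncard_le_ncard_of_injOn _ h1 h2 (Finset.finite_toSet _)⟩

theorem stab_cl : stabilizer CG (cl (e8 none)) = NN := by
  ext g; rw [mem_stabilizer_iff, smul_cl, cl_eq, mem_NN_cg]

theorem card_le_frames {S : List ℕ} (hW : Val W) (inj : Inj b W) (hS : Small b S) {K : Subgroup CG}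
    (hK : ∀ g ∈ K, Cg (b • g • e8 none) (g • e8 none)) : Nat.card K ≤ cntF W S * Nat.card ↥(K ⊓ NN) := by
  obtain ⟨h1, h2⟩ := ncard_frames hW inj hS
  rw [card_eq_ncard_orbit_mul K (cl (e8 none)), stab_cl]
  refine Nat.mul_le_mul_right _ (le_trans (Set.ncard_le_ncard ?_ h1) h2)
  rintro _ ⟨g, rfl⟩
  exact ⟨_, rfl, hK g g.2, (nm_act _ _).trans (sqNorm_e8 _)⟩

theorem card_inf_NN {K : Subgroup CG} {σ : MG} {KM : Subgroup MG} (h1 : ∀ g : NN, g.1 ∈ K → prM g ∈ KM)
    (h2 : ∀ c hc, sg c hc ∈ K → σ • c = c) :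
    Nat.card ↥(K ⊓ NN) ≤ Nat.card KM * {c | c ∈ GSupp ∧ σ • c = c}.ncard := by
  rw [← BG.card_inf_mul_relIndex SG, mul_comm]
  refine Nat.mul_le_mul ?_ ?_
  · have e : prM.ker = SG.subgroupOf NN := Subgroup.ext fun _ => prM_eq_one
    rw [← Subgroup.relIndex_subgroupOf (inf_le_right : K ⊓ NN ≤ NN), ← e, Subgroup.relIndex_ker]
    refine Subgroup.card_le_of_le ?_
    rintro _ ⟨g, hg, rfl⟩
    exact h1 g hg.1
  · rw [← Nat.card_coe_set_eq]
    refine Nat.card_le_card_of_surjective (α := {c | c ∈ GSupp ∧ σ • c = c} ) (fun c =>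
      if h : sg c.1 c.2.1 ∈ K then (⟨sg c.1 c.2.1, ⟨_, _, rfl⟩, h, sg_mem _⟩ : ↥(SG ⊓ (K ⊓ NN))) else 1) ?_
    rintro ⟨_, ⟨c, hc, rfl⟩, hk, -⟩
    exact ⟨⟨c, hc, h2 c hc hk⟩, dif_pos hk⟩

theorem ncard_fixc {s : ℕ} {σ : MG} (h : RM s σ) :
    {c | c ∈ GSupp ∧ σ • c = c}.ncard = countLt 4096 fun a => Nat.beq (img24 s (gE a)) (gE a) :=
  ncard_golay (pb := fun t => Nat.beq (img24 s t) t) fun t ht => by
    rw [h.smul_ofMask, nbeq]
    exact ⟨fun e => PM_canon ⟨h.imgP_lt t, rfl⟩ ⟨isG_lt ht, e⟩, fun e => congrArg EG.ofMask e⟩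

end Cfsg.Agent.Mon
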