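import Cfsg.Agent.Leech.Simple
import Cfsg.Agent.Golay.Mathieu
import Cfsg.Prelude.Def_MonsterType

/-! The Leech lattice modulo 2: `Cg` (congruence), `short`, stabilisers of classes (`no_two_uu`, `two_e8`), the sign group
`SG`. -/

set_option autoImplicit false

namespace Cfsg.Agent.Mon

open Cfsg.Agent.Comp Cfsg.Agent.Golay Cfsg.Agent.Leech Finset MulAction
open scoped Pointwise

/-- congruence modulo `2 Λ`. -/
def Cg (v w : LL) : Prop := ∃ u : LL, v - w = 2 • u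

abbrev nm (v : LL) : ℤ := sqNorm (v : V)
abbrev ip (v w : LL) : ℤ := dotInt (v : V) (w : V)

variable {v w x y : LL} {g k : CG}

theorem Cg.refl (v : LL) : Cg v v := ⟨0, by simp⟩
theorem Cg.symm (h : Cg v w) : Cg w v := let ⟨u, e⟩ := h; ⟨-u, by rw [smul_neg, ← e]; abel⟩
theorem Cg.trans (h : Cg v w) (h' : Cg w x) : Cg v x :=
  let ⟨u, e⟩ := h; let ⟨u', e'⟩ := h'; ⟨u + u', by rw [smul_add, ← e, ← e']; abel⟩
theorem Cg.add (h : Cg v w) (h' : Cg x y) : Cg (v + x) (w + y) :=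
  let ⟨u, e⟩ := h; let ⟨u', e'⟩ := h'; ⟨u + u', by rw [smul_add, ← e, ← e']; abel⟩
theorem Cg.smul (h : Cg v w) (g : CG) : Cg (g • v) (g • w) :=
  let ⟨u, e⟩ := h; ⟨g • u, by rw [← smul_sub, e, act_nsmul]⟩
theorem Cg.of_smul (h : Cg (g • v) (g • w)) : Cg v w := by simpa using h.smul g⁻¹
theorem cg_neg (v : LL) : Cg (-v) v := ⟨-v, by rw [two_nsmul]; abel⟩
theorem cg_sub (v w : LL) : Cg (v - w) (v + w) := ⟨-w, by rw [two_nsmul]; abel⟩
theorem cg_add_self (v : LL) : Cg (v + v) 0 := ⟨v, by rw [two_nsmul]; abel⟩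
theorem cg_zero_iff : Cg v 0 ↔ ∃ w : LL, v = w + w := by simp [Cg, two_nsmul]
theorem cg_add_zero : Cg (v + w) 0 ↔ Cg v w :=
  ⟨fun h => by simpa [add_assoc] using ((Cg.refl v).add (cg_add_self w).symm).trans (by
    simpa [add_assoc] using h.add (Cg.refl w)), fun h => (h.add (Cg.refl w)).trans (cg_add_self w)⟩

theorem Cg.eq (h : Cg v w) : ∃ u : LL, (v : V) = w + (2 : ℤ) • (u : V) := by
  obtain ⟨u, e⟩ := h
  refine ⟨u, ?_⟩
  have := congrArg Subtype.val e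
  rw [AddSubgroup.coe_sub, AddSubgroup.coe_nsmul, sub_eq_iff_eq_add'] at this
  rw [this]; norm_cast

theorem Cg.dvd_nm (h : Cg v w) : 32 ∣ nm v - nm w := by
  obtain ⟨u, e⟩ := h.eq
  obtain ⟨a, ha⟩ := eight_dvd_dot w.2 u.2
  obtain ⟨b, hb⟩ := sixteen_dvd_sqNorm u.2
  refine ⟨a + 2 * b, ?_⟩
  rw [nm, e, sqNorm_add, dot_smul_right, sqNorm_smul, ha, hb]; ring

theorem Cg.dvd_ip (h : Cg v w) (x : LL) : 16 ∣ ip v x - ip w x := by
  obtain ⟨u, e⟩ := h.eq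
  obtain ⟨a, ha⟩ := eight_dvd_dot u.2 x.2
  refine ⟨a, ?_⟩
  rw [ip, e, dot_add_left, dot_smul_left, ha]; ring

theorem nm_add (v w : LL) : nm (v + w) = nm v + 2 * ip v w + nm w := sqNorm_add _ _
theorem nm_sub (v w : LL) : nm (v - w) = nm v - 2 * ip v w + nm w := sqNorm_sub _ _
theorem nm_neg (v : LL) : nm (-v) = nm v := sqNorm_neg _
theorem nm_act (g : CG) (v : LL) : nm (g • v) = nm v := sqNorm_act _ _
theorem ip_act (g : CG) (v w : LL) : ip (g • v) (g • w) = ip v w := dot_act _ _ _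
theorem ip_comm (v w : LL) : ip v w = ip w v := dot_comm _ _
theorem nm_uu : nm uu = 32 := by decide +kernel
theorem nm_vv : nm vv = 48 := by decide +kernel

theorem short (v : LL) : ∃ y, Cg v y ∧ (y = 0 ∨ nm y = 32 ∨ nm y = 48 ∨ nm y = 64) := by
  obtain ⟨y, h, u, e⟩ := count_lat.1 v
  refine ⟨y, ⟨u, e⟩, ?_⟩
  by_cases h0 : y = 0
  · exact Or.inl h0
  · have h1 := le_sqNorm y.2 fun e => h0 (Subtype.ext e)
    obtain ⟨a, ha⟩ := sixteen_dvd_sqNorm y.2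
    right; unfold nm; omega

theorem Cg.short (h : Cg x y) (hx : nm x ≤ 64) (hy : nm y ≤ 64) : x = y ∨ x = -y ∨ nm x = 64 ∧ nm y = 64 ∧ ip x y = 0 := by
  obtain ⟨u, e⟩ := h
  rcases short_cases x.2 y.2 u.2 hx hy (congrArg Subtype.val e) with h | h | h
  exacts [Or.inl (Subtype.ext h), Or.inr (Or.inl (Subtype.ext h)), Or.inr (Or.inr h)]

theorem Cg.eq_or (h : Cg x y) (hx : nm x < 64) (hy : nm y ≤ 64) : x = y ∨ x = -y := by
  rcases h.short hx.le hy with h | h | h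
  exacts [Or.inl h, Or.inr h, absurd h.1 hx.ne]

theorem Cg.nm_eq (h : Cg x y) (hx : nm x ≤ 64) (hy : nm y ≤ 64) : nm x = nm y := by
  rcases h.short hx hy with h | h | h
  · rw [h]
  · rw [h, nm_neg]
  · rw [h.1, h.2.1]

theorem nm_zero : nm 0 = 0 := sqNorm_zero

theorem tr_nm (hx : nm x = 32 ∨ nm x = 48 ∨ nm x = 64) (h : nm y = nm x) : ∃ g : CG, g • x = y := by
  rcases hx with e | e | e
  · obtain ⟨g, -, k⟩ := tr32 x e y (h.trans e); exact ⟨g, k⟩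
  · obtain ⟨g, -, k⟩ := tr48 x e y (h.trans e); exact ⟨g, k⟩
  · obtain ⟨g, -, k⟩ := tr64 x e y (h.trans e); exact ⟨g, k⟩

theorem negC_sq : negC * negC = 1 := sg_sq _
theorem negC_comm (g : CG) : g * negC = negC * g := Subgroup.mem_center_iff.1 negC_mem_center g

theorem pow4 (h : g * g = 1 ∨ g * g = negC) : g ^ 4 = 1 := by
  rw [show g ^ 4 = g * g * (g * g) by simp [pow_succ, mul_assoc]]
  rcases h with h | h <;> rw [h]
  exacts [one_mul _, negC_sq]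

theorem not_exp4 {H : Type*} [Group H] [Finite H] (h3 : 3 ∣ Nat.card H) : ¬ ∀ x : H, x ^ 4 = 1 := fun h => by
  have : Fact (Nat.Prime 3) := ⟨Nat.prime_three⟩
  obtain ⟨x, hx⟩ := exists_prime_orderOf_dvd_card' 3 h3
  have := orderOf_dvd_of_pow_eq_one (h x)
  rw [hx] at this; omega

/-- a subgroup of the stabiliser of the class of `v`, normal in it, of exponent 2 modulo `±1`, larger than `±1`. -/
structure Two (N : Subgroup CG) (v : LL) : Prop where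
  neg : negC ∈ N
  fix : ∀ g ∈ N, Cg (g • v) v
  norm : ∀ k : CG, Cg (k • v) v → ∀ g ∈ N, k * g * k⁻¹ ∈ N
  sq : ∀ g ∈ N, g * g = 1 ∨ g * g = negC
  big : ∃ g ∈ N, g ≠ 1 ∧ g ≠ negC

theorem no_two_uu {N : Subgroup CG} (h : Two N uu) : False := by
  have hn : (N.subgroupOf (St1 uu)).Normal := ⟨fun a ha k => h.norm k (by rw [k.2]; exact Cg.refl _) _ ha⟩
  rcases simple_Co2.eq_bot_or_eq_top_of_normal _ hn with e | e
  · obtain ⟨g, hg, h1, h2⟩ := h.big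
    have k : ∀ g ∈ N, g • uu = uu → g = 1 := fun g hg e' => by
      have : (⟨g, e'⟩ : St1 uu) ∈ N.subgroupOf (St1 uu) := hg
      rw [e, Subgroup.mem_bot] at this
      exact congrArg Subtype.val this
    rcases (h.fix g hg).eq_or (by rw [nm_act, nm_uu]; norm_num) (by rw [nm_uu]; norm_num) with e' | e'
    · exact h1 (k g hg e')
    · have := k (negC * g) (N.mul_mem h.neg hg) (by rw [mul_smul, e', negC_smul, neg_neg])
      exact h2 (by rw [← mul_one negC, ← this, ← mul_assoc, negC_sq, one_mul])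
  · refine not_exp4 (H := St1 uu) (by rw [card_Co2]; norm_num) fun x => Subtype.ext (pow4 (h.sq _ ?_))
    exact (e ▸ Subgroup.mem_top x : x ∈ N.subgroupOf _)

/-- the sign changes. -/
def SG : Subgroup CG where
  carrier := {g | ∃ c hc, g = sg c hc}
  one_mem' := ⟨_, _, mono_one.symm⟩
  mul_mem' := by rintro _ _ ⟨c, hc, rfl⟩ ⟨d, hd, rfl⟩; exact ⟨_, _, sg_mul ..⟩
  inv_mem' := by rintro _ ⟨c, hc, rfl⟩; exact ⟨c, hc, inv_eq_of_mul_eq_one_right (sg_sq _)⟩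

theorem SG_le : SG ≤ NN := by rintro _ ⟨c, hc, rfl⟩; exact sg_mem _

theorem card_SG : Nat.card SG = 4096 := by
  have h : Function.Bijective fun p : GSupp => (⟨sg p.1 p.2, _, _, rfl⟩ : SG) :=
    ⟨fun p q h => Subtype.ext (mono_inj (hc := p.2) (hd := q.2) (congrArg Subtype.val h)).2,
      fun ⟨_, c, hc, e⟩ => ⟨⟨c, hc⟩, Subtype.ext e.symm⟩⟩
  rw [← Nat.card_congr (Equiv.ofBijective _ h)]
  have := ncard_golay (p := fun _ => True) (pb := fun _ => true) (by simp)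
  simp only [and_true] at this
  exact this.trans (by decide +kernel)

theorem cg_e8 (i j : GolayPt) : Cg (e8 i) (e8 j) := ⟨_, e8_sub i j⟩

theorem mem_NN_cg {i : GolayPt} : g ∈ NN ↔ Cg (g • e8 i) (e8 i) := by
  refine ⟨fun h => ?_, fun ⟨u, e⟩ => ?_⟩
  · obtain ⟨k, e | e⟩ := cross_of_mem_NN h i <;> rw [e]
    exacts [cg_e8 _ _, (cg_neg _).trans (cg_e8 _ _)]
  · obtain ⟨k, e⟩ := cross_of_cong ((sqNorm_act _ _).trans (sqNorm_e8 i)) e
    exact mem_NN_of_cross e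

/-- the projection `NN → M24`. -/
noncomputable def prM : NN →* MG where
  toFun g := g.2.choose
  map_one' := by
    obtain ⟨c, hc, e⟩ := (1 : NN).2.choose_spec
    exact (mono_inj (e.symm.trans mono_one.symm)).1
  map_mul' a b := by
    obtain ⟨c, hc, e⟩ := (a * b).2.choose_spec
    obtain ⟨d, hd, e1⟩ := a.2.choose_spec
    obtain ⟨f, hf, e2⟩ := b.2.choose_spec
    have : (a * b).1 = _ := (congrArg₂ (· * ·) e1 e2).trans (mono_mul ..)
    exact (mono_inj (e.symm.trans this)).1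

theorem prM_eq {g : NN} {σ : MG} {c : Finset GolayPt} {hc : c ∈ GSupp} (e : g.1 = mono σ c hc) : prM g = σ := by
  obtain ⟨d, hd, e1⟩ := g.2.choose_spec
  exact (mono_inj (e1.symm.trans e)).1

theorem prM_surj : Function.Surjective prM := fun σ => ⟨⟨pm σ, pm_mem σ⟩, prM_eq (hc := empty_mem_supp) rfl⟩

theorem prM_eq_one {g : NN} : prM g = 1 ↔ g.1 ∈ SG := by
  refine ⟨fun h => ?_, fun ⟨c, hc, e⟩ => prM_eq e⟩
  obtain ⟨σ, c, hc, e⟩ := g.2
  rw [prM_eq e] at h; subst h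
  exact ⟨c, hc, e⟩

theorem two_e8 {N : Subgroup CG} (h : Two N (e8 none)) : N = SG := by
  have l : N ≤ NN := fun g hg => mem_NN_cg.2 (h.fix g hg)
  have hn : (N.subgroupOf NN).Normal := ⟨fun a ha k => h.norm k (mem_NN_cg.1 k.2) _ ha⟩
  have l2 : N ≤ SG := by
    rcases simple_M24.eq_bot_or_eq_top_of_normal _ (hn.map prM prM_surj) with e | e
    · intro g hg
      exact (prM_eq_one (g := ⟨g, l hg⟩)).1 (Subgroup.mem_bot.1 (e ▸ Subgroup.mem_map_of_mem _ hg))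
    · refine absurd (fun x => ?_) (not_exp4 (H := MG) (by rw [card_M24]; norm_num))
      obtain ⟨g, hg, rfl⟩ : x ∈ (N.subgroupOf NN).map prM := e ▸ Subgroup.mem_top x
      rw [← map_pow, show g ^ 4 = 1 from Subtype.ext (pow4 (h.sq _ hg)), map_one]
  have hF : InvFam {c | ∃ hc, sg c hc ∈ N} :=
    ⟨⟨empty_mem_supp, (mono_one ▸ N.one_mem : mono 1 ∅ empty_mem_supp ∈ N)⟩,
      fun ⟨hc, a⟩ ⟨hd, b⟩ => ⟨_, sg_mul hc hd ▸ N.mul_mem a b⟩,
      fun σ _ ⟨hc, a⟩ => ⟨_, sg_conj σ hc ▸ h.norm _ (mem_NN_cg.1 (pm_mem σ)) _ a⟩⟩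
  obtain ⟨g, hg, h1, h2⟩ := h.big
  obtain ⟨c, hc, rfl⟩ := l2 hg
  refine le_antisymm l2 ?_
  rintro _ ⟨d, hd, rfl⟩
  exact (hF.supp_mem ⟨hc, hg⟩ hc (by rintro rfl; exact h1 mono_one) (by rintro rfl; exact h2 rfl) hd).2

end Cfsg.Agent.Mon
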