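import Cfsg.Agent.Mon.Odd

/-! Normal forms for elements of odd prime order of `C(z, s)`; 3-central elements. -/

set_option autoImplicit false
set_option linter.unusedSectionVars false
set_option linter.unusedVariables false

namespace Cfsg.Agent.Mon

open Subgroup Cfsg.Agent.BG Cfsg.Agent.Invol Cfsg.Agent.LES Cfsg.Agent.Leech Cfsg.Agent.Golay Cfsg.Agent.Comp
open scoped _root_.Classical

variable {G : Type*} [Group G] [Finite G] {Q T : Subgroup G} {z q r s t c d β : G} {π : C1[z] →* Spor.Co1}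
  {P : G → LL → Prop} {v w x y : LL} {b g k : CG} {p : ℕ} {σ : MG}

theorem mem_C2 : c ∈ centralizer ({z, s} : Set G) ↔ Commute c z ∧ Commute c s := by
  simp only [mem_centralizer_iff, Set.mem_insert_iff, Set.mem_singleton_iff, forall_eq_or_imp, forall_eq]
  exact and_congr eq_comm eq_comm

theorem C2_eq : centralizer ({z, s} : Set G) = C1[s] ⊓ C1[z] := by
  ext c; rw [mem_C2, mem_inf, mem_cent1, mem_cent1]; exact and_comm

theorem fact_eq {n k : ℕ} (hp : p.Prime) (h0 : n ≠ 0) (h1 : p ^ k ∣ n) (h2 : ¬ p ^ (k + 1) ∣ n) : n.factorization p = k := by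
  rw [hp.pow_dvd_iff_le_factorization h0] at h1 h2; omega

theorem card_NN1 : #(NN.map mk1) = 2 ^ 11 * 244823040 := by
  have := card_inf_mul_relIndex mk1.ker NN
  rw [relIndex_ker, QuotientGroup.ker_mk', inf_eq_left.2, card_center_Co0, card_NN] at this
  · omega
  · intro g hg
    rcases mem_center_Co0.1 hg with rfl | rfl
    exacts [NN.one_mem, SG_le neg_mem_SG]

theorem exists_gen {B : Subgroup G} (hp : p.Prime) (h : #B = p) : ∃ β, B = zpowers β ∧ orderOf β = p := by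
  have : Fact p.Prime := ⟨hp⟩
  obtain ⟨x, hx⟩ := exists_prime_orderOf_dvd_card' (G := B) p (h ▸ dvd_rfl)
  rw [← orderOf_coe] at hx
  exact ⟨x, (eq_of_le_of_card_ge (zpowers_le.2 x.2) (by rw [Nat.card_zpowers, hx, h])).symm, hx⟩

namespace MT

variable (H : MT Q z π P)
include H

theorem ne8 (hs : P s (e8 none)) : s ≠ 1 ∧ s ≠ z := H.ne_of hs (Or.inr (Or.inr (sqNorm_e8 _)))

theorem card_C2 (hs : P s (e8 none)) : Nat.card (centralizer ({z, s} : Set G)) = 2 ^ 24 * (2 ^ 11 * 244823040) := by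
  have e1 := H.card_img C1[s]
  have e2 := half H.es (H.PQ hs) (H.ne8 hs).1 (H.ne8 hs).2
  rw [← map_NS, H.NS_cent hs, card_NN1] at e1
  rw [H.card] at e2
  rw [C2_eq, ← e1]; congr 1; omega

theorem norm8 (hs : s ∈ Q) (hc : IsConj z s) (hne : s ≠ z) : ∃ π' P', MT Q z π' P' ∧ P' s (e8 none) :=
  let ⟨k, hk⟩ := H.norm4 hs hc hne; ⟨_, _, H.twist k, hk⟩

theorem conjNN (hs : P s (e8 none)) (hβ : Rl π β g) (hk : k ∈ NN) :
    ∃ π' P', MT Q z π' P' ∧ P' s (e8 none) ∧ Rl π' β (k * g * k⁻¹) :=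
  ⟨_, _, H.twist k⁻¹, H.cong hs (mem_NN_cg.1 (NN.inv_mem hk)).symm, hβ.1, by
    show _ = MulAut.conj _ (π _)
    rw [← hβ.2]; simp⟩

theorem ex_NN (hs : P s (e8 none)) : ∀ m ∈ centralizer ({z, s} : Set G), ∃ g ∈ NN, Rl π m g := fun m hm =>
  let ⟨g, hg⟩ := Rl.ex π (mem_C2.1 hm).1
  ⟨g, H.NS_cent hs ▸ mem_NS.2 ⟨m, mem_cent1.2 (mem_C2.1 hm).2, hg⟩, hg⟩

theorem norm_p (hs : P s (e8 none)) (hβ : β ∈ centralizer ({z, s} : Set G)) (hp : p.Prime) (p2 : p ≠ 2) (ho : orderOf β = p)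
    {S : Subgroup MG} {n : ℕ} (hS : #S = p ^ n) (hn : ¬ p ^ (n + 1) ∣ 4096 * 244823040) :
    ∃ π' P' σ, MT Q z π' P' ∧ P' s (e8 none) ∧ Rl π' β (pm σ) ∧ σ ∈ S ∧ orderOf σ = p := by
  have : Fact p.Prime := ⟨hp⟩
  have βp : β ^ p = 1 := ho ▸ pow_orderOf_eq_one β
  obtain ⟨g, hg, e, gp⟩ : ∃ g ∈ NN, Rl π β g ∧ g ^ p = 1 := by
    obtain ⟨g, hg, e⟩ := H.ex_NN hs β hβ
    rcases Rl.one.uniq (βp ▸ e.pow p) with k | k
    · exact ⟨g, hg, e, k⟩
    · refine ⟨_, NN.mul_mem hg (SG_le neg_mem_SG), e.neg, ?_⟩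
      obtain ⟨m, rfl⟩ := hp.odd_of_ne_two p2
      rw [Commute.mul_pow (negC_comm g), k, pow_succ, pow_mul, pow_two, negC_sq, one_pow, one_mul, negC_sq]
  obtain ⟨k, hk, σ, h1, h2⟩ := exists_conj_mem_sylow (K := NN) (P := S.map pm) (j := 1) hp
    (by rintro _ ⟨σ, -, rfl⟩; exact pm_mem σ) (by rw [card_map_of_injective pm_inj, hS]) card_NN hn hg (by rwa [pow_one])
  obtain ⟨π', P', H', h3, h4⟩ := H.conjNN hs e hk
  rw [← h2] at h4
  refine ⟨π', P', σ, H', h3, h4, h1, orderOf_eq_prime (pm_inj (by rw [map_pow, h2, conj_pow, gp]; simp)) fun e => ?_⟩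
  rw [e, map_one] at h4
  have := inf_odd H.es.pg (ho ▸ hp.odd_of_ne_two p2) (mem_zpowers β) ((H'.mem_iff h4).2 (Or.inl rfl))
  rw [this, orderOf_one] at ho
  exact hp.one_lt.ne ho

theorem norm_B (hs : s ∈ Q) (hc : IsConj z s) (hne : s ≠ z) {B : Subgroup G} (hB : B ≤ centralizer ({z, s} : Set G))
    (hp : p.Prime) (p2 : p ≠ 2) (hB' : #B = p ^ (Nat.card (centralizer ({z, s} : Set G))).factorization p)
    (hσ : orderOf σ = p) (hn : ¬ p ^ 2 ∣ 2 ^ 24 * (2 ^ 11 * 244823040)) :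
    ∃ π' P' β, MT Q z π' P' ∧ Rl π' β (pm σ) ∧ B = zpowers β ∧ orderOf β = p := by
  obtain ⟨π, P, H, hs⟩ := H.norm8 hs hc hne
  rw [H.card_C2 hs, fact_eq (k := 1) hp (by norm_num)
    (by rw [pow_one, ← hσ, ← card_M24]; exact Dvd.dvd.mul_left (Dvd.dvd.mul_left (orderOf_dvd_natCard σ) _) _) hn,
    pow_one] at hB'
  obtain ⟨β, rfl, ho⟩ := exists_gen hp hB'
  obtain ⟨π', P', τ, H', -, h1, h2, h3⟩ := H.norm_p hs (hB (mem_zpowers β)) hp p2 ho (S := zpowers σ) (n := 1)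
    (by rw [Nat.card_zpowers, hσ, pow_one]) fun e => hn (e.trans (by norm_num))
  have e : zpowers τ = zpowers σ := eq_of_le_of_card_ge (zpowers_le.2 h2) (by rw [Nat.card_zpowers, Nat.card_zpowers, h3, hσ])
  obtain ⟨γ, h4, h5⟩ := Rl_zp h1 (g := pm σ) (by rw [← MonoidHom.map_zpowers, e]; exact mem_map_of_mem _ (mem_zpowers σ))
  have h6 : orderOf γ = p := ((Nat.dvd_prime hp).1 (ho ▸ orderOf_dvd_of_mem_zpowers h4)).resolve_left fun e => by
    rw [orderOf_eq_one_iff.1 e] at h5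
    have : σ = 1 := pm1_inj (h5.2.trans ((map_one π').trans (map_one _).symm))
    rw [this, orderOf_one] at hσ
    exact hp.one_lt.ne hσ
  exact ⟨π', P', γ, H', h5, (eq_of_le_of_card_ge (zpowers_le.2 h4) (by rw [Nat.card_zpowers, Nat.card_zpowers, h6, ho])).symm, h6⟩

theorem central3 (hs : P s (e8 none)) (hβ : β ∈ centralizer ({z, s} : Set G)) (h : Rl π β (pm σ)) (ho : orderOf β = 3) :
    (∃ S : Sylow 3 (centralizer ({z, s} : Set G)), (zpowers β).subgroupOf (centralizer ({z, s} : Set G)) ≤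
      (center S).map (S : Subgroup (centralizer ({z, s} : Set G))).subtype) ↔ 27 ∣ #C1[σ] := by
  have : Fact (Nat.Prime 3) := ⟨Nat.prime_three⟩
  obtain ⟨l, hl⟩ := exists_lam (π := π) prM (fun g e => prM_eq_one.2 (e ▸ neg_mem_SG)) _ (H.ex_NN hs)
  have hpm : ∀ (m : centralizer ({z, s} : Set G)) τ, Rl π m (pm τ) → l m = τ := fun m τ e =>
    (hl m ⟨_, pm_mem τ⟩ e).trans (prM_eq (hc := empty_mem_supp) rfl)
  have cS : ∀ S : Sylow 3 (centralizer ({z, s} : Set G)), #(S : Subgroup (centralizer ({z, s} : Set G))) = 27 := fun S => by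
    rw [S.card_eq_multiplicity, H.card_C2 hs, fact_eq (k := 3) Nat.prime_three (by norm_num) (by norm_num) (by norm_num)]; rfl
  set y : centralizer ({z, s} : Set G) := ⟨β, hβ⟩
  refine ⟨fun ⟨S, hS⟩ => ?_, fun k => ?_⟩
  · have h1 : l.ker ⊓ S = ⊥ := eq_bot_iff.2 fun m hm => by
      obtain ⟨g, hg, e⟩ := H.ex_NN hs m.1 m.2
      obtain ⟨c, hc, e'⟩ := prM_eq_one.1 ((hl m ⟨g, hg⟩ e).symm.trans hm.1)
      have h2 := (H.mem_iff (e.mul e)).2 (Or.inl (by rw [show g = _ from e', sg_sq]))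
      have h3 : m ^ 2 ^ 3 = 1 := Subtype.ext (by
        show m.1 ^ 2 ^ 3 = 1
        rw [show m.1 ^ 2 ^ 3 = (m.1 * m.1 * (m.1 * m.1)) ^ 2 by rw [← pow_two, ← pow_two, ← pow_mul, ← pow_mul]; rfl]
        rcases H.es.sq _ h2 with e | e <;> rw [e, pow_two]
        exacts [one_mul _, H.es.zz])
      have h4 := orderOf_dvd_natCard (⟨m, hm.2⟩ : (S : Subgroup (centralizer ({z, s} : Set G))))
      rw [cS, orderOf_mk] at h4
      exact orderOf_eq_one_iff.1 (Nat.eq_one_of_dvd_coprimes (by norm_num) (orderOf_dvd_of_pow_eq_one h3) h4)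
    have h2 := card_inf_mul_relIndex l.ker S
    rw [h1, card_bot, one_mul, relIndex_ker, cS] at h2
    rw [← h2]
    refine card_dvd_of_le ?_
    rintro _ ⟨m, hm, rfl⟩
    obtain ⟨y', hy, e⟩ := hS (x := y) (mem_subgroupOf.2 (mem_zpowers β))
    rw [mem_cent1, ← hpm y σ h, ← map_mul, ← map_mul, ← e]
    exact congrArg (fun x : (S : Subgroup (centralizer ({z, s} : Set G))) => l x.1) (mem_center_iff.1 hy ⟨m, hm⟩)
  · have h1 : C1[σ] ≤ C1[y].map l := fun τ hτ => by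
      obtain ⟨c, hc, e⟩ := H.stab hs (H.ne8 hs).1 (H.ne8 hs).2 (mem_NN_cg.1 (pm_mem τ))
      have βs := (mem_C2.1 hβ).2
      obtain ⟨r, hr, e'⟩ := fix_coset (R := Q ⊓ C1[s]) (H.es.pg.to_le inf_le_left) (β := β) (c := c)
        (normsI (zpowers_le.2 (H.le.nQ β h.cz)) (norms_cent1 (zpowers_le.2 (mem_cent1.2 βs))) (mem_zpowers β))
        Nat.prime_three (by norm_num) (ho ▸ pow_orderOf_eq_one β)
        ⟨(H.mem_iff (hc.inv.mul ((h.mul hc).mul h.inv))).2 (Or.inl (by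
          rw [← map_mul, ← mem_cent1.1 hτ, map_mul]; group)),
          mem_cent1.2 (e.inv_left.mul_left ((βs.mul_left e).mul_left βs.inv_left))⟩
      have k := hc.mul (H.Rl_Q hr.1)
      rw [mul_one] at k
      exact ⟨⟨_, mem_C2.2 ⟨k.cz, e.mul_left (mem_cent1.1 hr.2)⟩⟩, mem_cent1.2 (Subtype.ext e'.eq.symm), hpm _ _ k⟩
    have h2 : 27 ∣ #C1[y] := k.trans ((card_dvd_of_le h1).trans (card_map_dvd _ _))
    have h3 : IsPGroup 3 (zpowers (⟨y, cent1_self y⟩ : C1[y])) :=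
      IsPGroup.of_card (n := 1) (by rw [Nat.card_zpowers, ← orderOf_coe, ← orderOf_coe, ho]; rfl)
    obtain ⟨U, hU⟩ := h3.exists_le_sylow
    obtain ⟨S, hS⟩ := (U.isPGroup'.map C1[y].subtype).exists_le_sylow
    have h4 : (U : Subgroup C1[y]).map C1[y].subtype = S := eq_of_le_of_card_ge hS (by
      rw [cS, card_map_of_injective (subtype_injective _), U.card_eq_multiplicity]
      exact Nat.pow_le_pow_right (n := 3) (i := 3) (by norm_num)
        ((Nat.prime_three.pow_dvd_iff_le_factorization Nat.card_pos.ne').1 h2))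
    refine ⟨S, fun a ha => ?_⟩
    obtain ⟨n, e⟩ := mem_subgroupOf.1 ha
    have e' : a = y ^ n := Subtype.ext e.symm
    rw [e']
    refine zpow_mem (⟨⟨y, hS ⟨_, hU (mem_zpowers _), rfl⟩⟩, mem_center_iff.2 fun ⟨m, hm⟩ => Subtype.ext ?_, rfl⟩ :
      y ∈ (center S).map (S : Subgroup (centralizer ({z, s} : Set G))).subtype) n
    obtain ⟨u, -, rfl⟩ : m ∈ (U : Subgroup C1[y]).map C1[y].subtype := h4 ▸ hm
    exact mem_cent1.1 u.2

end MT

end Cfsg.Agent.Mon
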