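import Cfsg.Agent.Mon.Quot
import Cfsg.Agent.Mon.Fix
import Cfsg.Agent.LES.Core
import Cfsg.Agent.Comp.Cent

/-! Centralisers of elements of odd prime order in groups of Monster type (`MT.odd`). -/

set_option autoImplicit false
set_option linter.unusedSectionVars false
set_option linter.unusedVariables false

namespace Cfsg.Agent.Mon

open Subgroup Cfsg.Agent.BG Cfsg.Agent.Invol Cfsg.Agent.LES Cfsg.Agent.Leech Cfsg.Agent.Golay Cfsg.Agent.Comp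
open scoped _root_.Classical

def Dual (b : CG) (W : List ℕ) : Prop :=
  ∀ i < W.length, ∃ d, Cg (b • d) d ∧ ∀ j < W.length, (16 ∣ ip d (vc (nthL 0 W j)) ↔ i ≠ j)

def dualOK (cb : ℕ) (W D : List ℕ) : Bool :=
  allLt (lenL W) fun i => force (nthL 0 D i) fun d => band (inL d) (band (Nat.beq (actV cb d) d)
    (allLt (lenL W) fun j => Bool.rec (not (Nat.beq i j)) (Nat.beq i j) (odd8 d (nthL 0 W j))))

theorem dual_of {cb : ℕ} {b : CG} {W D : List ℕ} (hb : RC cb b) (hW : Val W) (h : dualOK cb W D = true) : Dual b W := by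
  intro i hi
  simp only [dualOK, allLt_iff, force_eq, band_eq, Bool.and_eq_true, nbeq, lenL_eq] at h
  obtain ⟨h1, h2, h3⟩ := h i hi
  have p := PV_vec _ h1
  refine ⟨_, by rw [hb.smul_eq p p h2]; exact Cg.refl _, fun j hj => ?_⟩
  rw [← odd8_iff p (hW _ (nthL_mem (by rwa [lenL_eq])))]
  have := h3 j hj
  revert this
  cases odd8 (nthL 0 D i) (nthL 0 W j) <;> simp [nbeq_false]

variable {G : Type*} [Group G] [Finite G] {Q T : Subgroup G} {z q r s t c d β : G} {π : C1[z] →* Spor.Co1}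
  {P : G → LL → Prop} {v w x y : LL} {b g k : CG} {p : ℕ} {W : List ℕ}

theorem fix_coset {R : Subgroup G} (hR : IsPGroup 2 R) (hβ : β ∈ N[R]) (hp : p.Prime) (p2 : p ≠ 2) (ho : β ^ p = 1)
    (hx : c⁻¹ * (β * c * β⁻¹) ∈ R) : ∃ r ∈ R, Commute β (c * r) := by
  have : Fact p.Prime := ⟨hp⟩
  have : Fact (Nat.Prime 2) := ⟨Nat.prime_two⟩
  have h : ∀ y, c⁻¹ * (MulAut.conj β).toEquiv y ∈ R ↔ c⁻¹ * y ∈ R := fun y => by
    rw [← conj_mem_iff_of_norm (x := c⁻¹ * y) hβ, ← mul_mem_cancel_left (y := β * (c⁻¹ * y) * β⁻¹) hx]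
    simp [mul_assoc]
  let := Fintype.ofFinite {y : G // c⁻¹ * y ∈ R}
  obtain ⟨y, hy⟩ := Equiv.Perm.exists_fixed_point_of_prime (p := p) (n := 1)
    (σ := Equiv.Perm.subtypePerm (p := fun y => c⁻¹ * y ∈ R) (MulAut.conj β).toEquiv h) (by
      obtain ⟨n, hn⟩ := IsPGroup.iff_card.1 hR
      rw [← Nat.card_eq_fintype_card, Nat.card_congr ((Equiv.mulLeft c⁻¹).subtypeEquiv (p := fun y => c⁻¹ * y ∈ R)
        (q := (· ∈ R)) fun _ => Iff.rfl)]
      exact fun e => p2 ((Nat.prime_dvd_prime_iff_eq hp Nat.prime_two).1 (hp.dvd_of_dvd_pow (hn ▸ e)))) (by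
      rw [pow_one, Equiv.Perm.subtypePerm_pow]
      ext y
      have : ((MulAut.toPerm G).comp MulAut.conj β) ^ p = 1 := by rw [← map_pow, ho, map_one]
      exact congrArg (fun f : Equiv.Perm G => f y.1) this)
  exact ⟨_, y.2, by rw [mul_inv_cancel_left]; exact cj_eq_iff_comm.1 (congrArg Subtype.val hy)⟩

theorem comm_mul_iff (h : ES Q z) {a b w : G} (ha : a ∈ Q) (hb : b ∈ Q) (hw : w ∈ Q) :
    Commute (a * b) w ↔ (Commute a w ↔ Commute b w) :=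
  ⟨fun k => ⟨fun e => by simpa using e.inv_left.mul_left k, fun e => by simpa using k.mul_left e.inv_left⟩,
    fun k => by simpa using h.comm_of_iff (Q.inv_mem ha) hb hw (by simpa using k)⟩

theorem eq_one_of_odd (ho : Odd (orderOf β)) {τ : G} (h : τ ∈ zpowers β) {n : ℕ} (e : τ ^ 2 ^ n = 1) : τ = 1 :=
  orderOf_eq_one_iff.1 (Nat.eq_one_of_dvd_coprimes (Nat.Coprime.pow_left n ho.coprime_two_left)
    (orderOf_dvd_of_pow_eq_one e) (orderOf_dvd_of_mem_zpowers h))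

theorem odd_hA (ho : Odd (orderOf β)) (hz : z * z = 1) (zD : z ∈ C[zpowers β]) :
    ∀ d ∈ C[zpowers β], (d * z * d⁻¹)⁻¹ * z ∈ zpowers β → Commute d z := fun d hd e => by
  refine cj_eq_iff_comm.1 (inv_mul_eq_one.1 (eq_one_of_odd ho e (n := 1) ?_))
  have c := mem_cent.1 zD _ e
  have e1 : (d * z * d⁻¹)⁻¹ * (d * z * d⁻¹)⁻¹ = 1 := by
    rw [← mul_inv_rev, show d * z * d⁻¹ * (d * z * d⁻¹) = d * (z * z) * d⁻¹ by group, hz]; simp
  rw [mul_assoc, hz, mul_one, ← mul_assoc] at c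
  rw [pow_one, pow_two, ← mul_assoc, mul_assoc _ z, ← mul_assoc, mul_assoc, mul_assoc, ← mul_assoc z, ← c, e1]

theorem Pair.nwc_odd (h : Pair Q T z s) (hp : p.Prime) (p2 : p ≠ 2) (ho : β ^ p = 1) (hz : Commute β z) (hs : Commute β s) :
    ∃ d, Commute β d ∧ d * z * d⁻¹ = s := by
  obtain ⟨q, hq, e1⟩ := h.exq
  obtain ⟨v, hv, e2⟩ := h.symm.exq
  have hV := Pair.mem_CV.2 ⟨hz, hs⟩
  have hx : q⁻¹ * v ∈ Q ⊔ T := mul_mem (mem_sup_left (Q.inv_mem hq)) (mem_sup_right hv)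
  obtain ⟨r, hr, e⟩ := fix_coset h.R_pg (c := q⁻¹ * v) (normsY (normsI (h.hP.nQ β hs |> zpowers_le.2)
    (norms_cent1 (zpowers_le.2 (mem_cent1.2 hz)))) (normsI (h.hQ.nQ β hz |> zpowers_le.2)
    (norms_cent1 (zpowers_le.2 (mem_cent1.2 hs)))) (mem_zpowers β)) hp p2 ho (by
      simpa [mul_assoc] using (h.X_commSub (inv_mem hx)).2 β hV)
  refine ⟨_, e, ?_⟩
  have k := (Pair.mem_CV.1 (h.R_le_C hr)).1
  rw [show q⁻¹ * v * r * z * (q⁻¹ * v * r)⁻¹ = q⁻¹ * (v * (r * z * r⁻¹) * v⁻¹) * q by group, cj_eq_iff_comm.2 k, e2,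
    ← h.sz.eq, ← e1]
  group

theorem inf_odd (hQ : IsPGroup 2 Q) (ho : Odd (orderOf β)) {τ : G} (h : τ ∈ zpowers β) (h' : τ ∈ Q) : τ = 1 :=
  let ⟨n, hn⟩ := hQ ⟨τ, h'⟩; eq_one_of_odd ho h (congrArg Subtype.val hn)

theorem mem_CB : c ∈ C[zpowers β] ↔ Commute β c := by rw [C_zpowers, mem_cent1]; exact eq_comm

namespace MT

variable (H : MT Q z π P)
include H

theorem comm_fix (hβ : Rl π β b) (ho : Odd (orderOf β)) (hq : P q x) : Commute β q ↔ Cg (b • x) x := by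
  refine ⟨H.stab' hq hβ, fun h => ?_⟩
  rcases (H.eq_iff' hq (H.cj hβ hq)).1 h.symm with e | e
  · exact cj_eq_iff_comm.1 e
  · refine comm_of_sq ho (cj_eq_iff_comm.1 ?_)
    rw [show β * β * q * (β * β)⁻¹ = β * (β * q * β⁻¹) * β⁻¹ by group, e,
      show β * (q * z) * β⁻¹ = β * q * β⁻¹ * (β * z * β⁻¹) by group, e, cj_eq_iff_comm.2 hβ.cz, mul_assoc, H.es.zz, mul_one]

theorem card_fix (hβ : Rl π β b) (ho : Odd (orderOf β)) (inj : Inj b W) (dual : Dual b W) :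
    #(Q ⊓ C[zpowers β] : Subgroup G) = 2 ^ (W.length + 1) := by
  choose σ hσ using H.exq
  let φ : ↥(Q ⊓ C[zpowers β]) →* (Fin W.length → ℤˣ) := MonoidHom.mk'
    (fun q j => if Commute q.1 (σ (vc (nthL 0 W j))) then 1 else -1) fun a b => funext fun j => by
      rw [Pi.mul_apply, coe_mul, comm_mul_iff H.es a.2.1 b.2.1 (H.PQ (hσ _))]
      split_ifs <;> simp_all
  have h1 : φ.range = ⊤ := by
    refine eq_top_iff.2 fun a _ => ?_
    rw [← Finset.univ_prod_mulSingle a]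
    refine prod_mem fun i _ => ?_
    rcases Int.units_eq_one_or (a i) with e | e <;> rw [e]
    · simp
    · obtain ⟨d, h1, h2⟩ := dual i i.2
      refine ⟨⟨σ d, H.PQ (hσ d), mem_CB.2 ((H.comm_fix hβ ho (hσ d)).2 h1)⟩, funext fun j => ?_⟩
      show (if _ then _ else _) = _
      rw [H.comm_iff (hσ d) (hσ _), h2 j j.2, Pi.mulSingle_apply]
      by_cases e : j = i <;> simp [e, Fin.ext_iff, eq_comm] <;> simp_all [Fin.ext_iff, eq_comm]
  have l : zpowers z ≤ Q ⊓ C[zpowers β] := zpowers_le.2 ⟨H.es.zQ, mem_CB.2 hβ.cz⟩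
  have h2 : φ.ker = (zpowers z).subgroupOf _ := by
    ext q
    rw [MonoidHom.mem_ker, mem_subgroupOf, mem_zp H.es.z2]
    obtain ⟨x, hx⟩ := H.exv q.1 q.2.1
    rw [← H.zero hx]
    refine ⟨fun e => inj x ((H.comm_fix hβ ho hx).1 (mem_CB.1 q.2.2)) fun w hw => ?_, fun e => funext fun j => if_pos ?_⟩
    · obtain ⟨j, hj, rfl⟩ := List.getElem_of_mem hw
      have := congrFun e ⟨j, hj⟩
      rw [← List.getD_eq_getElem _ 0, ← nthL_eq, ← H.comm_iff hx (hσ _)]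
      by_contra n
      exact absurd ((if_neg n).symm.trans this : (-1 : ℤˣ) = 1) (by decide)
    · rw [H.comm_iff hx (hσ _)]
      simpa [ip_zero_left] using e.dvd_ip _
  rw [← card_ker_mul φ, h1, h2, card_subgroupOf l, Nat.card_zpowers, H.es.z2, card_top, Nat.card_pi]
  simp [pow_succ]

theorem lift_cent (hβ : Rl π β b) (hp : p.Prime) (p2 : p ≠ 2) (ho : β ^ p = 1) (hg : g * b = b * g) :
    ∃ c, Commute β c ∧ Rl π c g := by
  obtain ⟨c, hc⟩ := H.lift g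
  obtain ⟨r, hr, e⟩ := fix_coset H.es.pg (H.le.nQ β hβ.cz) hp p2 ho (c := c)
    ((H.mem_iff (hc.inv.mul ((hβ.mul hc).mul hβ.inv))).2 (Or.inl (by rw [← hg]; group)))
  exact ⟨_, e, by simpa using hc.mul (H.Rl_Q hr)⟩

omit H in
theorem ex_cent (hβ : Rl π β b) (hp : Odd p) (hb : b ^ p = 1) :
    ∀ m ∈ C[zpowers β] ⊓ C1[z], ∃ g ∈ C1[b], Rl π m g := fun m hm => by
  obtain ⟨g, hg⟩ := Rl.ex π (mem_cent1.1 hm.2)
  have k := (hg.mul hβ).mul hg.inv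
  rw [cj_eq_iff_comm.2 (mem_CB.1 hm.1).symm] at k
  refine ⟨g, mem_cent1.2 (mul_inv_eq_iff_eq_mul.1 ((hβ.uniq k).resolve_right fun e => negC_ne_one ?_)), hg⟩
  have : (g * b * g⁻¹) ^ p = 1 := by rw [conj_pow, hb]; simp
  obtain ⟨n, rfl⟩ := hp
  rwa [e, Commute.mul_pow (negC_comm b), hb, one_mul, pow_succ, pow_mul, pow_two, negC_sq, one_pow, one_mul] at this

omit H in
theorem Rl_zp (hβ : Rl π β b) (hg : g ∈ zpowers b) : ∃ τ ∈ zpowers β, Rl π τ g := by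
  obtain ⟨n, rfl⟩ := (mem_powers_iff_mem_zpowers.2 hg : g ∈ Submonoid.powers b)
  exact ⟨_, pow_mem (mem_zpowers β) n, hβ.pow n⟩

omit H in
theorem Rl_zp' {τ : G} (hβ : Rl π β b) (hg : τ ∈ zpowers β) : ∃ g ∈ zpowers b, Rl π τ g := by
  obtain ⟨n, rfl⟩ := (mem_powers_iff_mem_zpowers.2 hg : τ ∈ Submonoid.powers β)
  exact ⟨_, pow_mem (mem_zpowers b) n, hβ.pow n⟩

theorem odd (hβ : Rl π β b) (hp : p.Prime) (p2 : p ≠ 2) (ho : orderOf β = p) (hb : b ^ p = 1)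
    [((zpowers β).subgroupOf C[zpowers β]).Normal] (inj : Inj b W) (dual : Dual b W) {n : ℕ} (hn : W.length = 2 * n)
    (n1 : n ≠ 0) {L : Type*} [Group L] (f : C1[b] →* L) (hf : Function.Surjective f)
    (hk : ∀ g, f g = 1 ↔ g.1 ∈ zpowers b ∨ g.1 * negC ∈ zpowers b) (g0 : C1[b])
    (hx : ∀ K : Subgroup L, K.Normal → K ≠ ⊥ → f g0 ∈ K) (h1 : ∀ n : ℕ, f g0 ^ 2 ^ n ≠ 1)
    (h2 : ∃ x, Cg (b • x) x ∧ ¬ Cg (g0.1 • x) x) (hs : s ∈ Q) (hc : IsConj z s) (hne : s ≠ z) (βs : Commute β s) :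
    ∃ (zD : z ∈ C[zpowers β]) (_ : (Rb C[zpowers β] (zpowers β) zD Q).Normal),
      IsExtraspecialCentralizerSetting (zb C[zpowers β] (zpowers β) zD) (Rb C[zpowers β] (zpowers β) zD Q) n ∧
      Nonempty (C1[zb C[zpowers β] (zpowers β) zD] ⧸ Rb C[zpowers β] (zpowers β) zD Q ≃* L) := by
  have op : Odd p := hp.odd_of_ne_two p2
  have oβ : Odd (orderOf β) := ho ▸ op
  have βp : β ^ p = 1 := ho ▸ pow_orderOf_eq_one β
  have zD : z ∈ C[zpowers β] := mem_CB.2 hβ.cz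
  have hA := odd_hA oβ H.es.zz zD
  have := Rb_normal (zD := zD) H.le hA
  have cd := H.card_fix hβ oβ inj dual
  have hE : ES (Q ⊓ C[zpowers β]) z := (H.es.cent_odd (zpowers_le.2 (H.le.nQ β hβ.cz))
    (by rwa [Nat.card_zpowers])).resolve_left fun e => by
      rw [e, Nat.card_zpowers, H.es.z2, hn, pow_succ] at cd
      have := Nat.one_lt_two_pow (n := 2 * n) (by omega); omega
  have hex := ex_cent hβ op hb
  obtain ⟨l, hl⟩ := exists_lam (π := π) f (fun g e => (hk g).2 (Or.inr (by rw [e, negC_sq]; exact one_mem _))) _ hex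
  have ls : ∀ g : C1[b], ∃ m : ↥(C[zpowers β] ⊓ C1[z]), Rl π m g := fun g =>
    let ⟨c, h1, h2⟩ := H.lift_cent hβ hp p2 βp (mem_cent1.1 g.2); ⟨⟨c, mem_CB.2 h1, h2.1⟩, h2⟩
  obtain ⟨m, hm⟩ := ls g0
  rw [← hl m g0 hm] at hx h1
  obtain ⟨hs, e, -⟩ := quot_setting (zD := zD) (w := n) H.le hA
    (fun e => H.es.z1 (inf_odd H.es.pg oβ e H.es.zQ))
    (fun x hx h => (hE.cen x hx h).imp (fun e : x = 1 => by simp [e]) fun e => by simp [e]) hE.nab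
    (by
      rw [cd, hn, show zpowers β ⊓ (Q ⊓ C[zpowers β]) = ⊥ from
        eq_bot_iff.2 fun τ h => inf_odd H.es.pg oβ h.1 h.2.1, card_bot, one_mul]) l
    (fun a => let ⟨g, e⟩ := hf a; let ⟨m, hm⟩ := ls g; ⟨m, (hl m g hm).trans e⟩) (fun m => by
      obtain ⟨g, hg, e⟩ := hex m.1 m.2
      rw [hl m ⟨g, hg⟩ e, hk]
      refine ⟨fun k => ?_, fun ⟨q, hq, k⟩ => ?_⟩
      · obtain ⟨g', h1, h2⟩ : ∃ g' ∈ zpowers b, Rl π m g' := k.elim (fun k => ⟨_, k, e⟩) fun k => ⟨_, k, e.neg⟩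
        obtain ⟨τ, h3, h4⟩ := Rl_zp hβ h1
        refine ⟨m * τ⁻¹, ⟨(H.mem_iff (h2.mul h4.inv)).2 (Or.inl (mul_inv_cancel _)), C[zpowers β].mul_mem m.2.1 (inv_mem ?_)⟩,
          by simpa using h3⟩
        exact (abelian_zpowers β).cent h3
      · obtain ⟨g', h1, h2⟩ := Rl_zp' hβ k
        have := (H.Rl_Q hq.1).mul h2
        rw [mul_inv_cancel_left, one_mul] at this
        exact (e.uniq this).imp (fun e : g' = g => e ▸ h1) fun e : g' = g * negC => e ▸ h1) m hx h1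
    (by
      obtain ⟨x, h3, h4⟩ := h2
      obtain ⟨r, hr⟩ := H.exq x
      have k := H.cj hm hr
      rw [← cg_add_zero, add_comm, cg_add_zero, H.eq_iff' hr k, not_or] at h4
      exact ⟨r, ⟨H.PQ hr, mem_CB.2 ((H.comm_fix hβ oβ hr).2 h3)⟩,
        fun e => h4.1 (inv_mul_eq_one.1 (inf_odd H.es.pg oβ e (Q.mul_mem (Q.inv_mem (H.PQ hr)) (H.PQ k)))).symm,
        fun e => h4.2 (inv_mul_eq_one.1 (inf_odd H.es.pg oβ e (Q.mul_mem (Q.inv_mem (H.PQ (H.mulz hr))) (H.PQ k)))).symm⟩)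
    (by
      obtain ⟨x, rfl⟩ := isConj_iff.1 hc
      obtain ⟨d, h3, h4⟩ := Pair.nwc_odd (H.pair hs hne) hp p2 βp hβ.cz βs
      exact ⟨d, mem_CB.2 h3, h4 ▸ hs, h4 ▸ hne⟩)
  exact ⟨zD, this, hs, ⟨e⟩⟩

end MT

end Cfsg.Agent.Mon
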