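import Cfsg.Agent.Mon.Shape
import Cfsg.Agent.LES.Img

/-! The extraspecial-centralizer setting in a section `D / T` (`quot_setting`). -/

set_option autoImplicit false
set_option linter.unusedSectionVars false
set_option linter.unusedVariables false

namespace Cfsg.Agent.Mon

open Subgroup Cfsg.Agent.BG Cfsg.Agent.Invol Cfsg.Agent.LES Cfsg.Agent.Leech Cfsg.Agent.Golay Cfsg.Agent.Sig

theorem fstar_eq {H : Type*} [Group H] [Finite H] (R : Subgroup H) [hn : R.Normal] (hR : IsPGroup 2 R) (x : H)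
    (hx : ∀ K : Subgroup H, K.Normal → R < K → x ∈ K) (h1 : ∀ n : ℕ, x ^ 2 ^ n ≠ 1) (h2 : x ∉ R ⊔ C[R]) :
    generalizedFittingSubgroup H = R := by
  have : Fact (Nat.Prime 2) := ⟨Nat.prime_two⟩
  have e : pcIn 2 (⊤ : Subgroup H) = R := by
    have l : R ≤ pcIn 2 ⊤ := le_pcIn le_top (by rw [normalizer_eq_top]) hR
    by_contra n
    have k := hx _ (by rw [pcIn_top]; infer_instance) (lt_of_le_of_ne l (Ne.symm n))
    obtain ⟨n, hn⟩ := isPGroup_pcIn (p := 2) (K := ⊤) ⟨x, k⟩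
    exact h1 n (congrArg Subtype.val hn)
  rw [← fstarIn_top, ← e, fstarIn_eq_pcIn_iff, e, top_inf_eq]
  by_contra n
  have : C[R].Normal := normal_centralizer
  exact h2 (hx (R ⊔ C[R]) (sup_normal _ _) (lt_of_le_of_ne le_sup_left fun e => n (le_sup_right.trans e.ge)))

variable {G : Type*} [Group G] [Finite G]

section
variable (D T : Subgroup G) [hT : (T.subgroupOf D).Normal] {z : G} (zD : z ∈ D)

def zb : D ⧸ T.subgroupOf D := QuotientGroup.mk ⟨z, zD⟩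

def th : ↥(D ⊓ C1[z]) →* C1[zb D T zD] :=
  ((QuotientGroup.mk' (T.subgroupOf D)).comp (inclusion inf_le_left)).codRestrict _ fun m => mem_cent1.2 (by
    show QuotientGroup.mk' _ _ * QuotientGroup.mk' _ _ = QuotientGroup.mk' _ _ * QuotientGroup.mk' _ _
    rw [← map_mul, ← map_mul]; congr 1; exact Subtype.ext (mem_cent1.1 m.2.2))

def Rb (Q : Subgroup G) : Subgroup C1[zb D T zD] := ((Q ⊓ D).subgroupOf (D ⊓ C1[z])).map (th D T zD)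

variable {D T zD}

theorem th_eq {a b : ↥(D ⊓ C1[z])} : th D T zD a = th D T zD b ↔ a.1⁻¹ * b.1 ∈ T :=
  Subtype.ext_iff.trans QuotientGroup.eq

theorem th_eq_one {a : ↥(D ⊓ C1[z])} : th D T zD a = 1 ↔ a.1 ∈ T := by
  rw [← map_one (th D T zD), eq_comm, th_eq]; simp

theorem th_surj (hA : ∀ d ∈ D, (d * z * d⁻¹)⁻¹ * z ∈ T → Commute d z) : Function.Surjective (th D T zD) := by
  rintro ⟨x, hx⟩
  obtain ⟨d, rfl⟩ := QuotientGroup.mk_surjective x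
  refine ⟨⟨d.1, d.2, mem_cent1.2 (hA d.1 d.2 ?_)⟩, rfl⟩
  have : (QuotientGroup.mk (d * ⟨z, zD⟩ * d⁻¹) : D ⧸ T.subgroupOf D) = QuotientGroup.mk ⟨z, zD⟩ :=
    mul_inv_eq_iff_eq_mul.2 (mem_cent1.1 hx)
  exact mem_subgroupOf.1 (QuotientGroup.eq.1 this)

variable {Q : Subgroup G}

theorem le_M (hQ : ES Q z) : Q ⊓ D ≤ D ⊓ C1[z] := fun q hq => ⟨hq.2, mem_cent1.2 (hQ.zc q hq.1)⟩

theorem Rb_normal (hQ : LE Q z) (hA : ∀ d ∈ D, (d * z * d⁻¹)⁻¹ * z ∈ T → Commute d z) : (Rb D T zD Q).Normal :=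
  Normal.map (H := (Q ⊓ D).subgroupOf (D ⊓ C1[z]))
    ⟨fun a ha m => mem_subgroupOf.2 ⟨hQ.conj_mem (mem_cent1.1 m.2.2) ha.1, (m * a * m⁻¹).2.1⟩⟩ _ (th_surj hA)

theorem Rb_ES (hQ : ES Q z) (z1 : z ∉ T) (hc : ∀ x ∈ Q ⊓ D, (∀ y ∈ Q ⊓ D, Commute x y) → x ∈ T ∨ x⁻¹ * z ∈ T)
    (hn : ∃ x ∈ Q ⊓ D, ∃ y ∈ Q ⊓ D, ¬ Commute x y) :
    ES (Rb D T zD Q) (th D T zD ⟨z, zD, cent1_self z⟩) :=
  hQ.image (th D T zD) inf_le_left (le_M hQ) ⟨hQ.zQ, zD⟩ (fun e => z1 (th_eq_one.1 e))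
    (fun x hx h => (hc x hx h).imp th_eq_one.2 th_eq.2) hn

theorem card_Rb (hQ : ES Q z) : #(T ⊓ (Q ⊓ D) : Subgroup G) * #(Rb D T zD Q) = #(Q ⊓ D : Subgroup G) := by
  have e : (th D T zD).ker = T.subgroupOf _ := Subgroup.ext fun _ => th_eq_one
  rw [Rb, ← relIndex_ker, e, ← inf_subgroupOf_right T, relIndex_subgroupOf (le_M hQ),
    ← card_inf_mul_relIndex (T ⊓ (D ⊓ C1[z])) (Q ⊓ D), inf_assoc, inf_eq_right.2 (le_M hQ)]

theorem quot_setting (hQ : LE Q z) (hA : ∀ d ∈ D, (d * z * d⁻¹)⁻¹ * z ∈ T → Commute d z) (z1 : z ∉ T)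
    (hc : ∀ x ∈ Q ⊓ D, (∀ y ∈ Q ⊓ D, Commute x y) → x ∈ T ∨ x⁻¹ * z ∈ T)
    (hn : ∃ x ∈ Q ⊓ D, ∃ y ∈ Q ⊓ D, ¬ Commute x y) {w : ℕ}
    (hcard : #(Q ⊓ D : Subgroup G) = #(T ⊓ (Q ⊓ D) : Subgroup G) * 2 ^ (2 * w + 1)) {L : Type*} [Group L]
    (f : ↥(D ⊓ C1[z]) →* L) (hf : Function.Surjective f) (hk : ∀ m, f m = 1 ↔ ∃ q ∈ Q ⊓ D, q⁻¹ * m.1 ∈ T)
    (m : ↥(D ⊓ C1[z])) (hx : ∀ K : Subgroup L, K.Normal → K ≠ ⊥ → f m ∈ K) (h1 : ∀ n : ℕ, f m ^ 2 ^ n ≠ 1)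
    (h2 : ∃ r ∈ Q ⊓ D, r⁻¹ * (m * r * m.1⁻¹) ∉ T ∧ (r * z)⁻¹ * (m * r * m.1⁻¹) ∉ T)
    (h3 : ∃ d ∈ D, d * z * d⁻¹ ∈ Q ∧ d * z * d⁻¹ ≠ z) [(Rb D T zD Q).Normal] :
    IsExtraspecialCentralizerSetting (zb D T zD) (Rb D T zD Q) w ∧
      ∃ e : C1[zb D T zD] ⧸ Rb D T zD Q ≃* L, ∀ m, e (QuotientGroup.mk (th D T zD m)) = f m := by
  have hE := Rb_ES (zD := zD) hQ.toES z1 hc hn
  obtain ⟨e, he⟩ := equivOfSurj ((QuotientGroup.mk' (Rb D T zD Q)).comp (th D T zD)) f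
    ((QuotientGroup.mk'_surjective _).comp (th_surj hA)) hf (by
      ext m
      rw [MonoidHom.mem_ker, MonoidHom.mem_ker, hk]
      exact (QuotientGroup.eq_one_iff _).trans ⟨fun ⟨q, hq, e⟩ => ⟨q.1, hq, th_eq.1 e⟩,
        fun ⟨q, hq, e⟩ => ⟨⟨q, le_M hQ.toES hq⟩, hq, th_eq.2 e⟩⟩)
  refine ⟨⟨?_, ?_, hE.isExtraspecial, ?_, ?_⟩, e, he⟩
  · exact (orderOf_injective C1[zb D T zD].subtype (subtype_injective _) _).trans hE.z2
  · refine fstar_eq _ hE.pg (th D T zD m) (fun K hK lt => ?_) (fun n e' => h1 n ?_) fun k => ?_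
    · let p := e.toMonoidHom.comp (QuotientGroup.mk' (Rb D T zD Q))
      have hp : p.ker = Rb D T zD Q := by
        ext x; exact (map_eq_one_iff e e.injective).trans (QuotientGroup.eq_one_iff x)
      have := hx (K.map p) (hK.map p (e.surjective.comp (QuotientGroup.mk'_surjective _))) fun e' =>
        lt.not_ge (hp ▸ (Subgroup.map_eq_bot_iff _).1 e')
      rw [← he] at this
      have k : th D T zD m ∈ (K.map p).comap p := this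
      rwa [comap_map_eq, hp, sup_eq_left.2 lt.le] at k
    · rw [← he, ← map_pow, ← map_pow, ← map_one e]; congr 1
      show QuotientGroup.mk' _ (th D T zD (m ^ 2 ^ n)) = 1
      rw [map_pow, e', map_one]
    · obtain ⟨r, hr, n1, n2⟩ := h2
      have hr' : th D T zD ⟨r, le_M hQ.toES hr⟩ ∈ Rb D T zD Q := ⟨_, hr, rfl⟩
      rw [← SetLike.mem_coe, normal_mul] at k
      obtain ⟨a, ha, b, hb, e'⟩ := k
      have k := hE.comm a ha _ hr'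
      have k2 : th D T zD m * th D T zD ⟨r, le_M hQ.toES hr⟩ * (th D T zD m)⁻¹ =
          a * th D T zD ⟨r, le_M hQ.toES hr⟩ * a⁻¹ := by
        rw [← e']; simp only [mul_inv_rev]
        rw [mul_assoc a b, ← mem_cent.1 hb _ hr']; group
      rw [← k2, ← map_inv, ← map_mul, ← map_mul, ← map_mul, eq_comm, th_eq, eq_comm, th_eq] at k
      exact k.elim n1 n2
  · have := card_Rb (zD := zD) (T := T) hQ.toES
    rw [hcard] at this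
    exact Nat.eq_of_mul_eq_mul_left Nat.card_pos this
  · obtain ⟨d, hd, h4, h5⟩ := h3
    have hm : d * z * d⁻¹ ∈ Q ⊓ D := ⟨h4, D.mul_mem (D.mul_mem hd zD) (D.inv_mem hd)⟩
    refine ⟨QuotientGroup.mk ⟨d, hd⟩, ⟨(th D T zD ⟨_, le_M hQ.toES hm⟩).2, ⟨_, le_M hQ.toES hm⟩, hm, rfl⟩, fun e' => ?_⟩
    have : (QuotientGroup.mk (⟨d, hd⟩ * ⟨z, zD⟩ * ⟨d, hd⟩⁻¹) : D ⧸ T.subgroupOf D) = QuotientGroup.mk ⟨z, zD⟩ := e'
    exact h5 (cj_eq_iff_comm.2 (hA d hd (mem_subgroupOf.1 (QuotientGroup.eq.1 this))))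

end

theorem exists_lam {z : G} {π : C1[z] →* Spor.Co1} {K : Subgroup CG} {L : Type*} [Group L] (f : K →* L)
    (hf : ∀ g : K, g.1 = negC → f g = 1) (M : Subgroup G) (h : ∀ m ∈ M, ∃ g ∈ K, Rl π m g) :
    ∃ l : M →* L, ∀ (m : M) (g : K), Rl π m g → l m = f g := by
  choose φ h1 h2 using h
  have k : ∀ (m : G) (a b : K), Rl π m a → Rl π m b → f a = f b := fun m a b ha hb => by
    rcases ha.uniq hb with e | e
    · rw [Subtype.ext e]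
    · rw [← mul_one (f a), ← hf (a⁻¹ * b) (by simp [e]), ← map_mul, mul_inv_cancel_left]
  refine ⟨MonoidHom.mk' (fun m => f ⟨φ m.1 m.2, h1 _ _⟩) fun a b => ?_, fun m g hg => k m _ _ (h2 _ _) hg⟩
  rw [← map_mul]
  exact k _ _ _ (h2 _ _) ((h2 _ _).mul (h2 _ _))

end Cfsg.Agent.Mon
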