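import Cfsg.Agent.Mon.Basic

/-! `2^11 : M24` inside `Co1`. -/

set_option autoImplicit false
set_option linter.unusedSectionVars false
set_option linter.unusedVariables false

namespace Cfsg.Agent.Mon

open Subgroup Cfsg.Agent.BG Cfsg.Agent.Invol Cfsg.Agent.LES Cfsg.Agent.Leech Cfsg.Agent.Golay

def Shape {H : Type*} [Group H] (X E : Subgroup H) : Prop :=
  E ≤ X ∧ (∀ x ∈ X, ∀ y ∈ E, x * y * x⁻¹ ∈ E) ∧ IsElementaryAbelian 2 E ∧ Nat.card E = 2 ^ 11 ∧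
    ∃ K : Subgroup H, K ≤ X ∧ E ⊓ K = ⊥ ∧ E ⊔ K = X ∧ Nonempty (K ≃* M24)

theorem Shape.map {H H' : Type*} [Group H] [Group H'] {X E : Subgroup H} (h : Shape X E) (f : H →* H')
    (hf : Function.Injective f) : Shape (X.map f) (E.map f) := by
  obtain ⟨h1, h2, ⟨h3, h4⟩, h5, K, h6, h7, h8, ⟨e⟩⟩ := h
  refine ⟨map_mono h1, ?_, ⟨inferInstance, ?_⟩, by rw [card_map_of_injective hf, h5], K.map f, map_mono h6,
    by rw [← map_inf _ _ _ hf, h7, Subgroup.map_bot], by rw [← Subgroup.map_sup, h8],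
    ⟨(equivMapOfInjective K f hf).symm.trans e⟩⟩
  · rintro _ ⟨x, hx, rfl⟩ _ ⟨y, hy, rfl⟩
    exact ⟨_, h2 x hx y hy, by simp⟩
  · rintro _ ⟨x, hx, rfl⟩
    rw [← map_pow, h4 x hx, map_one]

theorem sg_comm {a b : CG} (ha : a ∈ SG) (hb : b ∈ SG) : a * b = b * a := by
  obtain ⟨c, hc, rfl⟩ := ha
  obtain ⟨d, hd, rfl⟩ := hb
  rw [sg_mul, sg_mul]; exact mono_congr rfl (symmDiff_comm _ _)

theorem neg_mem_SG : negC ∈ SG := ⟨_, _, rfl⟩

theorem pm_mem_SG {σ : MG} (h : pm σ ∈ SG) : σ = 1 :=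
  (prM_eq (g := ⟨pm σ, pm_mem σ⟩) (hc := empty_mem_supp) rfl).symm.trans (prM_eq_one.2 h)

theorem pm1_inj : Function.Injective (mk1.comp pm) := by
  rw [injective_iff_map_eq_one]
  intro σ h
  rcases mk1_eq_one.1 h with e | e
  exacts [pm_mem_SG (e ▸ SG.one_mem), pm_mem_SG (e ▸ neg_mem_SG)]

theorem SG_conj {k g : CG} (hk : k ∈ NN) (hg : g ∈ SG) : k * g * k⁻¹ ∈ SG := by
  have : prM (⟨k, hk⟩ * ⟨g, SG_le hg⟩ * ⟨k, hk⟩⁻¹) = 1 := by
    rw [map_mul, map_mul, (prM_eq_one (g := ⟨g, SG_le hg⟩)).2 hg]; simp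
  exact prM_eq_one.1 this

theorem shape_Co1 : Shape (NN.map mk1) (SG.map mk1) := by
  refine ⟨map_mono SG_le, ?_, ⟨⟨⟨?_⟩⟩, ?_⟩, MT.card_SG1, (mk1.comp pm).range, ?_, ?_, ?_,
    ⟨(MonoidHom.ofInjective pm1_inj).symm⟩⟩
  · rintro _ ⟨x, hx, rfl⟩ _ ⟨y, hy, rfl⟩
    exact ⟨_, SG_conj hx hy, by simp⟩
  · rintro ⟨_, x, hx, rfl⟩ ⟨_, y, hy, rfl⟩
    exact Subtype.ext (show mk1 x * mk1 y = mk1 y * mk1 x by rw [← map_mul, ← map_mul, sg_comm hx hy])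
  · rintro _ ⟨_, ⟨c, hc, rfl⟩, rfl⟩
    rw [← map_pow, pow_two, sg_sq, map_one]
  · rintro _ ⟨σ, rfl⟩
    exact ⟨_, pm_mem σ, rfl⟩
  · rw [eq_bot_iff]
    rintro _ ⟨⟨g, hg, e⟩, σ, rfl⟩
    have : pm σ ∈ SG := by
      rcases mk1_eq.1 e with e | e <;> rw [e]
      exacts [hg, SG.mul_mem hg neg_mem_SG]
    rw [pm_mem_SG this, map_one]; exact one_mem _
  · refine le_antisymm (sup_le (map_mono SG_le) ?_) ?_
    · rintro _ ⟨σ, rfl⟩
      exact ⟨_, pm_mem σ, rfl⟩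
    · rintro _ ⟨_, ⟨σ, c, hc, rfl⟩, rfl⟩
      rw [← sg_mul_pm, map_mul]
      exact mul_mem (mem_sup_left ⟨_, ⟨c, hc, rfl⟩, rfl⟩) (mem_sup_right ⟨σ, rfl⟩)

theorem equivOfSurj {M A B : Type*} [Group M] [Group A] [Group B] (f : M →* A) (g : M →* B) (hf : Function.Surjective f)
    (hg : Function.Surjective g) (h : f.ker = g.ker) : ∃ e : A ≃* B, ∀ m, e (f m) = g m := by
  refine ⟨(QuotientGroup.quotientKerEquivOfSurjective f hf).symm.trans ((QuotientGroup.quotientMulEquivOfEq h).trans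
    (QuotientGroup.quotientKerEquivOfSurjective g hg)), fun m => ?_⟩
  have : (QuotientGroup.quotientKerEquivOfSurjective f hf).symm (f m) = QuotientGroup.mk m :=
    (MulEquiv.symm_apply_eq _).2 rfl
  rw [MulEquiv.trans_apply, this]; rfl

theorem MT.equiv {G : Type*} [Group G] [Finite G] {z : G} {Q : Subgroup C1[z]} [Q.Normal] {π : C1[z] →* Spor.Co1}
    {P : G → LL → Prop} (H : MT (Q.map C1[z].subtype) z π P) :
    ∃ e : Spor.Co1 ≃* C1[z] ⧸ Q, (e : Spor.Co1 →* _).comp π = QuotientGroup.mk' Q := by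
  obtain ⟨e, he⟩ := equivOfSurj π (QuotientGroup.mk' Q) H.surj (QuotientGroup.mk'_surjective Q) (by
    ext h; rw [MonoidHom.mem_ker, H.ker, mem_map_sub, QuotientGroup.ker_mk'])
  exact ⟨e, MonoidHom.ext he⟩

end Cfsg.Agent.Mon
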