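import Cfsg.Agent.Mon.Cent
import Cfsg.Agent.Comp.Lin
import Cfsg.Agent.Golay.Classes

/-! The centralizer `7 × 2·L₃(2)` in `Co0` of a permutation of order 7; the number of conjugates of `z` (`MT.count`). -/

set_option autoImplicit false
set_option maxRecDepth 100000
set_option exponentiation.threshold 100000

namespace Cfsg.Agent.Mon

open Cfsg.Agent.Comp Cfsg.Agent.Golay Cfsg.Agent.Leech Cfsg.Agent.BG Cfsg.Agent.LES MulAction Subgroup Equiv
open scoped Pointwise MatrixGroups

section
variable {G : Type*} [Group G]

def pr (x : G) : Set (Cj G) := {toCj x, toCj x⁻¹}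
theorem smul_pr (g x : G) : g • pr x = pr (g * x * g⁻¹) := by
  rw [pr, Set.smul_set_insert, Set.smul_set_singleton, smul_toCj, smul_toCj, pr, conj_inv]
theorem pr_eq {x y : G} : pr x = pr y ↔ x = y ∨ x = y⁻¹ := by
  rw [pr, pr, Set.pair_eq_pair_iff]
  simp only [toCj_inj, inv_inj, and_self]
  exact or_congr_right ⟨fun h => h.1, fun h => ⟨h, by rw [h, inv_inv]⟩⟩
/-- the extended centralizer. -/
abbrev Ext (x : G) : Subgroup G := stabilizer G (pr x)
theorem mem_Ext {g x : G} : g ∈ Ext x ↔ g * x * g⁻¹ = x ∨ g * x * g⁻¹ = x⁻¹ := by rw [mem_stabilizer_iff, smul_pr, pr_eq]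
theorem le_Ext (x : G) : C1[x] ≤ Ext x := fun _ h => mem_Ext.2 (Or.inl (mul_inv_eq_iff_eq_mul.2 (mem_cent1.1 h)))

variable [Finite G] {Q : Subgroup G} {z β : G} {π : C1[z] →* Spor.Co1} {P : G → LL → Prop} {b : CG} {p : ℕ}

theorem MT.count (H : MT Q z π P) (hβ : Rl π β b) (hp : p.Prime) (p2 : p ≠ 2) (ho : orderOf β = p)
    [((zpowers β).subgroupOf C[zpowers β]).Normal] (zD : z ∈ C[zpowers β]) :
    {x : C1[zb C[zpowers β] (zpowers β) zD] | x ∈ Rb C[zpowers β] (zpowers β) zD Q ∧
      IsConj (zb C[zpowers β] (zpowers β) zD) x.1}.ncard =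
      1 + 2 * {X : LQ | ∃ x, X = cl x ∧ Cg (b • x) x ∧ nm x = 64}.ncard := by
  have oβ : Odd (orderOf β) := ho ▸ hp.odd_of_ne_two p2
  set F := {X : LQ | ∃ x, X = cl x ∧ Cg (b • x) x ∧ nm x = 64}
  choose σ hσ using fun X : LQ => H.exq (Quotient.out X)
  have hc : ∀ X : LQ, cl (Quotient.out X) = X := Quotient.out_eq
  have hσ' : ∀ x, P (σ (cl x)) x := fun x => H.cong (hσ _) (cl_eq.1 (hc _))
  have i1 : ∀ X Y, σ X = σ Y ∨ σ X = σ Y * z → X = Y := fun X Y e =>
    (hc X).symm.trans ((cl_eq.2 ((H.eq_iff' (hσ Y) (hσ X)).2 e).symm).trans (hc Y))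
  have e1 : {q | (q ∈ Q ⊓ C[zpowers β]) ∧ IsConj z q} = insert z (σ '' F ∪ (fun X => σ X * z) '' F) := by
    ext q
    refine ⟨fun ⟨h1, h2⟩ => ?_, ?_⟩
    · by_cases e : q = z
      · exact Or.inl e
      obtain ⟨x, h3, h4⟩ := H.type4' h1.1 h2 e
      have m : cl x ∈ F := ⟨x, rfl, (H.comm_fix hβ oβ h3).1 (mem_CB.1 h1.2), h4⟩
      exact Or.inr (((H.eq_iff' (hσ' x) h3).1 (Cg.refl x)).imp (fun e => ⟨_, m, e.symm⟩) fun e => ⟨_, m, e.symm⟩)
    · have k : ∀ q x, P q x → Cg (b • x) x → nm x = 64 → q ∈ Q ⊓ C[zpowers β] ∧ IsConj z q := fun q x h1 h2 h3 =>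
        ⟨⟨H.PQ h1, mem_CB.2 ((H.comm_fix hβ oβ h1).2 h2)⟩, (H.conj64 h1 h3).1⟩
      rintro (rfl | ⟨_, ⟨x, rfl, h1, h2⟩, rfl⟩ | ⟨_, ⟨x, rfl, h1, h2⟩, rfl⟩)
      exacts [⟨⟨H.es.zQ, zD⟩, IsConj.refl _⟩, k _ x (hσ' x) h1 h2, k _ x (H.mulz (hσ' x)) h1 h2]
  have e2 : (insert z (σ '' F ∪ (fun X => σ X * z) '' F)).ncard = 1 + 2 * F.ncard := by
    rw [Set.ncard_insert_of_notMem, Set.ncard_union_eq, Set.ncard_image_of_injective _ fun X Y e => i1 X Y (Or.inl e),
      Set.ncard_image_of_injective _ fun X Y e => i1 X Y (Or.inl (mul_right_cancel e))]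
    · omega
    · refine Set.disjoint_left.2 ?_
      rintro _ ⟨X, -, rfl⟩ ⟨Y, -, e⟩
      obtain rfl := i1 X Y (Or.inr e.symm)
      exact H.es.z1 (by simpa using e)
    · rintro (⟨_, ⟨x, rfl, -, h⟩, e⟩ | ⟨_, ⟨x, rfl, -, h⟩, e⟩)
      exacts [(H.conj64 (hσ' x) h).2 e, (H.conj64 (H.mulz (hσ' x)) h).2 e]
  rw [← e2, ← e1]
  symm
  refine Set.ncard_congr (fun q hq => th _ _ zD ⟨q, le_M H.es hq.1⟩) (fun q hq => ⟨⟨_, hq.1, rfl⟩, ?_⟩)
    (fun a b ha hb e => ?_) ?_
  · by_cases e : q = z
    · subst e; exact IsConj.refl _
    obtain ⟨x, rfl⟩ := isConj_iff.1 hq.2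
    obtain ⟨d, h3, h4⟩ := Pair.nwc_odd (H.pair hq.1.1 e) hp p2 (ho ▸ pow_orderOf_eq_one β) hβ.cz (mem_CB.1 hq.1.2)
    exact isConj_iff.2 ⟨QuotientGroup.mk ⟨d, mem_CB.2 h3⟩, congrArg QuotientGroup.mk (Subtype.ext h4)⟩
  · exact inv_mul_eq_one.1 (inf_odd H.es.pg oβ (th_eq.1 e) (mul_mem (inv_mem ha.1.1) hb.1.1))
  · rintro _ ⟨⟨q, hq, rfl⟩, h⟩
    refine ⟨q.1, ⟨hq, ?_⟩, rfl⟩
    obtain ⟨d, e⟩ := isConj_iff.1 h
    obtain ⟨d, rfl⟩ := QuotientGroup.mk_surjective d
    have : (QuotientGroup.mk (d * ⟨z, zD⟩ * d⁻¹) : C[zpowers β] ⧸ (zpowers β).subgroupOf _) = QuotientGroup.mk ⟨q, q.2.1⟩ := e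
    have m : (d * z * d.1⁻¹)⁻¹ * q.1 ∈ zpowers β := mem_subgroupOf.1 (QuotientGroup.eq.1 this)
    obtain ⟨τ, hτ⟩ : ∃ τ, τ = (d * z * d.1⁻¹)⁻¹ * q.1 := ⟨_, rfl⟩
    rw [← hτ] at m
    have e2 : d * z * d.1⁻¹ = q * τ⁻¹ := by rw [hτ]; group
    have c : Commute q.1 τ := (mem_cent.1 q.2.1 τ m).symm
    have e3 : q.1 * q = τ * τ := by
      have : q * τ⁻¹ * (q * τ⁻¹) = 1 := by
        rw [← e2]
        calc _ = d * (z * z) * d.1⁻¹ := by group
          _ = 1 := by rw [H.es.zz]; group
      rwa [c.inv_right.symm.mul_mul_mul_comm, ← mul_inv_rev, mul_inv_eq_one] at this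
    have t1 : τ = 1 := eq_one_of_odd oβ m (n := 1) (by
      rw [pow_one, pow_two]; exact inf_odd H.es.pg oβ (mul_mem m m) (e3 ▸ mul_mem hq.1 hq.1))
    exact isConj_iff.2 ⟨d, by rw [e2, t1, inv_one, mul_one]⟩
end

namespace T7

def c7 : ℕ := 984721654909928888842556336403284078
def gens : List (ℕ × ℕ) := [(nat_lit 0x2010080402010080402010080402010080402010080402010080400010080402010080402010080402010080402010080402010080402010080002010080402010080402010080402010080402010080402010080402010080402010080402010000402010080402010080402010080402010080402000080402010080402010080402010080402010080402010080402010080400010080402010080402010080402010080402010080402010080402010080402010080400010080402010080402010080402010080402010080400010080402010080402010000402010080402010080402010080402010080402010080402010080402010080402010080402010080402010080402000080402010080402010080402010080402010080402010000402010080402010080402010080402010000402010080402010080402010080402010080402010080402010080402000080402010080402010080402010080402010080002010080402010080402010080402010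08040201008040001008040201008040201008040201008040201008040201008040201008040201008000201008040201008040201008040201008040201000040201008040201008040201008040201008040200008040201008040201008040201008040201008040201008040201008040200008040201008040201008040201008040201008040201008040201008040201008040201008000201008040201008040201008040201008040201008040201008040200008040201008040201008040201008040201008040201008040201008040201000040201008040201008040201008040201008040201008000201008040201008040201008040001008040201008040201008040201008, 16434824),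
  (nat_lit 0x2028140805020100a04020140404020100805028100a04020100803020100604018140803028100a030180c0604020140805028140a03020100604018140805018100a05018140a040200c0805018140604018140803030100a04020140804020100803028100604020180803020100a040280c0803018100a050181406040201408050280c06040180c0803020100604020140804020100c05028100a04030100804018140803010100a04020140804020100803028100604020080803020100a040280c0805028100a030180c0a040200c08050180c0a040180c0805020100a040300c08040201808050281006040201008040180c0405020080a04020140804020100803018100a04020100803020100604028140803018100a03028140a040201408030180c0a06028140805020100a04020140c04020100805028100a04020100804018140805020100606020140804020100805018180604020100804018140803020100a040200c0806020100805018100a04020100c040180c0c05020180a04020140804020100803018100a040201008040181408050201006040200c0804030100803028100a06020100803020100a040180c0805018100a030281406040200c0803028140a03020100a040180c0803028100a050280c0a040201408030181406040180c0805020100a040100c0804020080805028100604020100803020100604028140805028100a050280c06040200c08030280c0604018140803020100a040200c0802020100805018100a040201004040181408050201006040200c0804010100803028100a020201008040180c0803020100604020140804020100405028100a040101008040181408050201006020201408040201008050180806040201008,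 6166440),
  (nat_lit 0x50280c08030200c06040180c08040201008030180c06030180c06060101006040181008030201006030180c0604020100804020100804020100a04018100803020100a030280c0a04020100404020100c04020100604018100805010100a050180c0a06020100804020100804020100604018100805030100a050180c0a02020100804020100804020100606018080805020100a030281406040201008040201008050281408030200c0604028140804020100805018140a030280c0a04020100602018180805020100a03028140604020100804020100804020100a04018100803020100a030280c0a04020100c040201004050281408030200c0a040180c0804020100803028140a05018140a04020100a04018100403020100a050181406040201008040201808020301006040181008030201006030180c0604020100804020100804020100604028100803020100a03018140a04030100802020100804020100a04028100805020180a030180c0604020100804010100804020180604028100803020100a050280c0604020080804020100804020100a04018100c03020100a05018140604020100804020080804020080604028100803020100a050280c0604020180804020100804020100a04028100805020080a030180c06040201008040301008050280c08050201406040181408040201008030280c0a050280c0a04020100604028100803020100a03018140a04010100806020100805028140805020140a040181408040201008030181406030281406050280c0805020140a040280c08040201008050180c0a03018140a050281408050201406040280c08040201008050281406050180c06050280c08030200c0a040281408040201008050280c06050281406,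 7429240)]
def pts : List (ℕ × ℕ) := [(nat_lit 0x80201008040201008040201008040201008040201008040201008, 1),
  (nat_lit 0x40280c06030181006030200c0a030180c06030181006040201008, 2),
  (nat_lit 0x50201006040180c0803018100a030180c06040200c08030180c06, 4),
  (nat_lit 0x50280c08030200c06040180c08040201008030180c06030180c06, 7),
  (nat_lit 0x4018140605018100a03020140a030180c0605028100a040201008, 3),
  (nat_lit 0x3020100604018140803028100a030180c0604020140805028140a, 5),
  (nat_lit 0x20101006040181008030201006030180c06040201008040201008, 6),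
  (nat_lit 0x40201008040201008040201008040201008040201008040201008, 0)]
def WD : List (ℕ × ℕ) := [(nat_lit 0x682412070481c12090382412070381c0e07048241209048241209, nat_lit 0x4824120904824120904824120d048241209048241209048241209),
  (nat_lit 0x60101008040201008040201008040201008040201008040201008, nat_lit 0x282c0e09038241207048240e050482412090381c1207048241209),
  (nat_lit 0x38241209048240e090481c120d048241209048240e090381c0e07, nat_lit 0x483412070481c12090382412070381c0e07048241209048241209),
  (nat_lit 0x58241209048240e090481c1209048241209048240e090381c0e07, nat_lit 0x682412070481c12090382412070381c0e07048241209048241209),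
  (nat_lit 0x582c0e09038240e070481c0e050482412090381c0e070381c0e07, nat_lit 0x48341209048241209048241209048241209048241209048241209),
  (nat_lit 0x48341209048241209048241209048241209048241209048241209, nat_lit 0x6020100804020100804020100c040201008040201008040201008)]
def seeds : List ℕ := [nat_lit 0x40201008040201008040201008040201008040201008040201008,
  nat_lit 0x4824120904824120904824120d048241209048241209048241209,
  nat_lit 0x58241209048240e090481c1209048241209048240e090381c0e07]
def a0 : ℕ := nat_lit 0x4824120904824120904824120d048241209048241209048241209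
def cτ : ℕ := nat_lit 0x1020100804020140804028100804020100804020140805028140a040180c0a030281006050200c0a05028140a03018100604020100804018140a03028100603020140a030280c0605018100a04020100804028140603028100a050200c0a030181406050181006040201008040180c0605028100605020140a03018140603028100a04020100804028140a050181006050200c0a050180c0603018100a040201008050201008040201408040281008040201008040201408050281402040180c0a03018100a05020140a050180c06050281006040201008040280c0a05028100a030200c0a030280c0603028100604020100805020100804020140804028100804020100804020040805028140a04018140605018100a03020140a05028140603018100604020100804028140a05028100a05020140a05028140a05028100a040201008040280c0603028100a03020140a050180c0a03018100a04020100804028140603018100605020140a030280c0a030281006040201008040280c0a05018100603020140a03018140a050181006040201008040280c06030181006030200c0a05028140605028100a04020100804018140a03018100a030200c0a03018140a03028100a040201008040180c0605018100a050200c0a030280c0a05018100a04020100805020100804020140804008100804020100804020140805028140a040181406050281006030200c0a050180c0a05028100604020100805020100804020140804028100804020100804020140805028040a05020100804020140804028100804020100804020140805008140a05020100804020140804028100804020100804020140801028140a05020100804020040804028100804020100804020140805028140a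

noncomputable def y7 : MG := elt c7 (by decide +kernel)
theorem rep : CM c7 y7 := ⟨elt_rep _ _, by decide +kernel⟩
theorem ord : orderOf y7 = 7 := orderOf_prime_CM rep (by norm_num) (by decide +kernel)
theorem card_C : #(Ext y7) ≤ 42 := by
  have l : Ext y7 ≤ stabilizer MG trio0 := fun g hg => by
    have y0 : y7 • trio0 = trio0 := (Keyed.smul_eq_iff rep.1 trio0_P trio0_P).2 (by decide +kernel)
    have k : ∀ T : Finset (Finset GolayPt), (∀ s ∈ ({y7, y7⁻¹} : Set MG), s • T = T) ↔ y7 • T = T := fun T => by
      simp [inv_smul_eq_iff, eq_comm (a := T)]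
    refine fix_of_unique (S := {y7, y7⁻¹}) (U := trios) ?_ trio0_mem ((k _).2 y0) ?_ (inv_trios g _ trio0_mem)
    · have := fix_tr rep.1 1
      rw [one_mul, inv_one, mul_one] at this
      simp only [k]
      exact this.trans (by decide +kernel)
    · have := mem_Ext.1 (inv_mem hg)
      rw [inv_inv] at this
      rintro _ (rfl | rfl)
      · exact this
      · rw [show g⁻¹ * y7⁻¹ * g = (g⁻¹ * y7 * g)⁻¹ by group]
        rcases this with e | e <;> simp [e]
  refine (card_le_card (le_inf l le_rfl)).trans (card_stab_le (a := 1536) (le_trans (by decide +kernel)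
    (orbitL_le_ncard (P := fun a X => ∃ g, CM a g ∧ X = pr g) (act := conjC mul24 inv24)
      (hash := fun a => (a + inv24 a) % 123234) (valid := fun _ => true) (fuel := 1600) ?_
      (CodesIn_CM codes_Tr (by decide +kernel)) ⟨_, rep, rfl⟩ ?_ (Set.finite_range _))) (by norm_num) card_Tr.le)
  · rintro c k a _ hc ⟨g, h, rfl⟩
    exact ⟨_, grpCM.conj hc h, smul_pr _ _⟩
  · rintro a b _ ⟨g, h, rfl⟩ ⟨k, h', e⟩
    rcases pr_eq.1 e with rfl | rfl
    · rw [canCM.canon h h']
    · have := grpCM.inv h
      rw [inv_inv] at this
      rw [canCM.canon this h', canCM.canon h (grpCM.inv h'), add_comm]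
theorem rb : RC (pmC c7) (pm y7) := RC_pmC rep.1
theorem codes : CodesIn RC (mapL Prod.fst gens) C1[pm y7] := codes_cent rb (by decide +kernel)
theorem hW : Val (mapL Prod.fst WD) := val_of (by decide +kernel)
theorem inj : Inj (pm y7) (mapL Prod.fst WD) := inj_of (p := 7) rb (by decide) hW (by decide +kernel)
theorem dual : Dual (pm y7) (mapL Prod.fst WD) := dual_of (D := mapL Prod.snd WD) rb hW (by decide +kernel)
theorem small : Small (pm y7) (orbS (mapL Prod.fst WD) (mapL Prod.fst gens) 30 seeds) := small_of rb codes 30 (by decide +kernel)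
theorem ne_inv : y7 ≠ y7⁻¹ := fun e => absurd (canCM.canon rep (e ▸ grpCM.inv rep)) (by decide +kernel)
theorem fix_fr {g : CG} (hg : g ∈ Ext (pm y7)) : Cg (pm y7 • g • e8 none) (g • e8 none) := by
  have : g⁻¹ * pm y7 * g ∈ NN := by
    have := mem_Ext.1 (inv_mem hg)
    rw [inv_inv] at this
    rcases this with e | e <;> rw [e]
    exacts [pm_mem _, inv_mem (pm_mem _)]
  simpa [mul_smul] using (mem_NN_cg.1 this).smul g
theorem card_Ext : #(Ext (pm y7)) ≤ 4704 := by
  have k : ∀ g : NN, ∀ σ, g.1 * pm y7 * g.1⁻¹ = pm σ → prM g * y7 * (prM g)⁻¹ = σ := fun g σ e => by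
    rw [← prM_pm y7, ← prM_pm σ, ← map_inv, ← map_mul, ← map_mul]; exact congrArg prM (Subtype.ext e)
  refine (card_le_frames hW inj small fun g => fix_fr).trans ((Nat.mul_le_mul_left _ ((card_inf_NN (σ := y7)
    (KM := Ext y7) (fun g hg => mem_Ext.2 ((mem_Ext.1 hg).imp (k g _) fun e => k g _ (by rw [e, map_inv])))
    fun c hc h => fix_of_comm (hc := hc) (mem_cent1.2 (mul_inv_eq_iff_eq_mul.1 ((mem_Ext.1 h).resolve_right fun e => ?_)))).trans
      (Nat.mul_le_mul card_C (ncard_fixc rep.1).le))).trans (by decide +kernel))
  have := k ⟨_, sg_mem hc⟩ _ (e.trans (map_inv _ _).symm)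
  rw [prM_eq (σ := 1) (hc := hc) rfl] at this
  exact ne_inv (by simpa using this)
noncomputable def τ : CG := eltC cτ (by decide +kernel)
theorem rτ : RC cτ τ := RC_eltC _ _
theorem τ_inv : τ * pm y7 * τ⁻¹ = (pm y7)⁻¹ :=
  canC.func (grpC.conj rτ rb) ((by decide +kernel : conjC mulC invC cτ (pmC c7) = invC (pmC c7)) ▸ grpC.inv rb)
theorem card_le : #C1[pm y7] ≤ 2352 := by
  have h := card_mul_relIndex (le_Ext (pm y7))
  have h1 : C1[pm y7].relIndex (Ext (pm y7)) ≠ 1 := fun e => ne_inv (pm_inj (by
    rw [map_inv, ← τ_inv, mem_cent1.1 (relIndex_eq_one.1 e (mem_Ext.2 (Or.inr τ_inv))), mul_inv_cancel_right]))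
  have h2 := relIndex_pos C1[pm y7] (Ext (pm y7))
  have := card_Ext
  nlinarith [show 2 ≤ C1[pm y7].relIndex (Ext (pm y7)) by omega]
theorem frames : {X : LQ | ∃ x, X = cl x ∧ Cg (pm y7 • x) x ∧ nm x = 64}.ncard = 14 := by
  obtain ⟨h1, h2⟩ := ncard_frames hW inj small
  refine (h2.trans (by decide +kernel)).antisymm (le_trans (by decide +kernel) ((Keyed.le_ncard_orbitH (C := keyQ)
    ((codes.mono (le_Ext _)).cons (mem_Ext.2 (Or.inr τ_inv)) rτ) ⟨_, PV_e8 none, rfl⟩ (fun a => a % 21) 20).trans
      (Set.ncard_le_ncard ?_ h1)))
  rintro _ ⟨g, rfl⟩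
  exact ⟨g.1 • e8 none, rfl, fix_fr g.2, (nm_act _ _).trans (sqNorm_e8 _)⟩
theorem par : Par (2 ^ 3) 3 7 := ⟨by decide, rfl⟩
def ws : List (List ℕ) := [[5, 1, 3, 5, 0], [3, 5, 1, 5], [9, 5, 0, 3, 0, 8, 2]]

theorem hom : ∃ f : C1[pm y7] →* SL(3, ZMod 2), Function.Surjective f ∧
    ∀ g, f g = 1 ↔ g.1 ∈ zpowers (pm y7) ∨ g.1 * negC ∈ zpowers (pm y7) := by
  have := faithful_SL (Fin 3) (ZMod 2)
  have c : #(⊤ : Subgroup SL(3, ZMod 2)) = 168 := by rw [card_top, card_SL2F 3 (by decide)]; decide
  have hA := codes_SL (encFin 2) (w := 3) (m := 7) (L := mapL Prod.snd gens) (by decide +kernel)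
  obtain ⟨f, h1, h2, -⟩ := cent_hom' rb (p := 7) (by decide) ((orderOf_pm _).trans ord) keyQ (keyedPt (encFin 2).vec 3 7 _)
    gens pts codes hA (closure_eq_of_slpP _ par hA [1, 2, 4] ws 10 c (by decide +kernel))
    (pts_ok _ (fun _ => keyQ_P) (by decide +kernel)) (fun h _ => fix_pts _ (by decide +kernel) h) (PRep.one par)
    (by decide +kernel) (c ▸ card_le)
  exact ⟨(topEquiv (G := SL(3, ZMod 2))).toMonoidHom.comp f, topEquiv.surjective.comp h1, fun g => (map_eq_one_iff _ topEquiv.injective).trans (h2 g)⟩

theorem ex_g0 : ∃ g : C1[pm y7], g.1 ^ 21 = 1 ∧ ∃ x, Cg (pm y7 • x) x ∧ ¬ Cg (g.1 • x) x :=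
  let ⟨g, h1, h2⟩ := codes (nthL 0 (mapL Prod.fst gens) 1) (memL_iff.1 (by decide +kernel))
  ⟨⟨g, h1⟩, pow_RC h2 (by decide +kernel), moved rb h2 a0 (by decide +kernel)⟩

end T7

end Cfsg.Agent.Mon
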